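import Mathlib
import Cfsg.Agent.Classification.QDW.TypeHom

/-!
# Class-preserving automorphisms of `SL₂(F)` are inner
-/

set_option autoImplicit false

namespace Cfsg.Agent.H279.SLClass

open Matrix Cfsg.Agent.Lib.SL2Mat Cfsg.Agent.Lib.AutSL2 Cfsg.Agent.Classification.QDW.TypeHom

variable {F : Type*} [Field F]

/-- the trace is a class function -/
theorem tr_conj {x y : SpecialLinearGroup (Fin 2) F} (h : IsConj x y) : tr x = tr y := by
  obtain ⟨c, hc⟩ := isConj_iff.1 h
  rw [← hc, ← conjGL_toGL, tr_conjGL]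

/-- An automorphism of `SL₂(F)`, `F` finite, that preserves the conjugacy classes is inner. -/
theorem inner_of_isConj [Finite F] (α : MulAut (SpecialLinearGroup (Fin 2) F))
    (h : ∀ x, IsConj (α x) x) : ∃ s : SpecialLinearGroup (Fin 2) F, ∀ x, α x = s * x * s⁻¹ := by
  have h1 : typ α = 1 := typ_eq fun x => by rw [tr_conj (h x)]; rfl
  obtain ⟨g, rfl⟩ := (typ_eq_one_iff α).1 h1
  let u : SpecialLinearGroup (Fin 2) F := mk 1 1 0 1 (by ring)
  obtain ⟨c, hc⟩ := isConj_iff.1 (h u).symm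
  -- `c u c⁻¹ = g u g⁻¹`
  have hm : c.1 * u.1 * (c⁻¹).1 = g.1 * u.1 * g⁻¹.1 := by
    have := congrArg Subtype.val hc
    rw [conjGL_val] at this
    exact this
  set k : Matrix (Fin 2) (Fin 2) F := (c⁻¹).1 * g.1 with hk
  have hcc : (c⁻¹).1 * c.1 = 1 := by
    have := congrArg Subtype.val (inv_mul_cancel c)
    exact this
  have hku : k * u.1 = u.1 * k := by
    have e1 : (c⁻¹).1 * (c.1 * u.1 * (c⁻¹).1) * g.1 = (c⁻¹).1 * (g.1 * u.1 * g⁻¹.1) * g.1 := by rw [hm]
    have e2 : (c⁻¹).1 * (c.1 * u.1 * (c⁻¹).1) * g.1 = ((c⁻¹).1 * c.1) * u.1 * k := by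
      rw [hk]; simp only [Matrix.mul_assoc]
    have e3 : (c⁻¹).1 * (g.1 * u.1 * g⁻¹.1) * g.1 = k * u.1 * (g⁻¹.1 * g.1) := by
      rw [hk]; simp only [Matrix.mul_assoc]
    rw [e2, e3, hcc, Matrix.one_mul, inv_val_mul_val, Matrix.mul_one] at e1
    exact e1.symm
  have hu : u.1 = !![1, 1; 0, 1] := rfl
  rw [hu] at hku
  have h00 := congrFun (congrFun hku 0) 0
  have h01 := congrFun (congrFun hku 0) 1
  simp only [Matrix.mul_apply, Fin.sum_univ_two] at h00 h01
  simp at h00 h01
  have hdet : g.1.det = (k 0 0) ^ 2 := by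
    have e1 : k.det = g.1.det := by
      rw [hk, Matrix.det_mul, (c⁻¹).2, one_mul]
    rw [← e1, Matrix.det_fin_two]
    have h10 : k 1 0 = 0 := by
      first
        | exact h00
        | linear_combination h00
        | linear_combination (-1 : F) * h00
    have h11 : k 1 1 = k 0 0 := by
      first
        | linear_combination h01
        | linear_combination (-1 : F) * h01
    rw [h10, h11]; ring
  have hd : k 0 0 ≠ 0 := by
    intro h0
    have hne : g.1.det ≠ 0 := (Matrix.GeneralLinearGroup.det g).ne_zero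
    rw [hdet, h0] at hne
    simp at hne
  exact Cfsg.Agent.Lib.AutSL2Out.conjGL_of_det_sq g (k 0 0) hd hdet

end Cfsg.Agent.H279.SLClass
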