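import Mathlib
import Cfsg.Agent.H691.Defs
import Cfsg.Agent.H279.SLClass
import Cfsg.Agent.H672.Over
import Cfsg.Agent.H672.SL2Graph
import Cfsg.Agent.H681.DegBasic
import Cfsg.Agent.Characters.GaloisIrr
import Cfsg.Agent.OddOrderCharacters.PF9.Reducible
import Cfsg.Agent.Blocks.Deflate
import Cfsg.Agent.Blocks.CentralProduct
import Cfsg.Agent.CharDeep.DegreeBound
import Cfsg.Agent.S0187
import Cfsg.Agent.S0188
import Cfsg.Agent.S2299
import Cfsg.Agent.S2300

/-!
# Groups with the character degrees of `SL₂(q)` and derived subgroup `SL₂(q)`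

Part F2 of S4854 (task 147): such a group is the central product of its derived subgroup and of an abelian group.
-/

set_option autoImplicit false
set_option linter.unusedSectionVars false
set_option linter.style.haveILetI false

namespace Cfsg.Agent.H279.CentProd

open Cfsg Cfsg.Agent.Characters.Core Cfsg.Agent.H681.DegBasic Cfsg.Agent.H672

section inv

variable {G : Type*} [Group G] [Finite G] {N : Subgroup G} [hN : N.Normal]

/-- conjugates of irreducible characters of `N` -/
theorem isIrr_conj' {θ : N → ℂ} (hθ : IsIrrCharacter N θ) (g : G) :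
    IsIrrCharacter N (θ ∘ (MulAut.conjNormal g : MulAut N)) :=
  Cfsg.Agent.Characters.Clifford.isIrr_conjNormal hθ g

/-- A character with a unique degree is invariant. -/
theorem inertia_of_card_one {S : Type*} [Group S] (e : N ≃* S) {c : ℂ}
    (h : Nat.card {χ : IrrCharacter S // (χ : S → ℂ) 1 = c} = 1) {θ : N → ℂ} (hθ : IsIrrCharacter N θ)
    (hc : θ 1 = c) : inertia N θ = ⊤ := by
  rw [Subgroup.eq_top_iff']
  intro g
  rw [mem_inertia]
  have hs := (Nat.card_eq_one_iff_unique.1 h).1
  have h1 : IsIrrCharacter S (θ ∘ e.symm) := isIrr_comp e.symm.toMonoidHom e.symm.surjective hθ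
  have h2 : IsIrrCharacter S ((θ ∘ (MulAut.conjNormal g : MulAut N)) ∘ e.symm) :=
    isIrr_comp e.symm.toMonoidHom e.symm.surjective (isIrr_conj' hθ g)
  have h3 : (⟨⟨_, h1⟩, by simpa using hc⟩ : {χ : IrrCharacter S // (χ : S → ℂ) 1 = c}) =
      ⟨⟨_, h2⟩, by simpa using hc⟩ := Subsingleton.elim _ _
  have h4 : θ ∘ e.symm = (θ ∘ (MulAut.conjNormal g : MulAut N)) ∘ e.symm :=
    congrArg (fun x => (x.1 : S → ℂ)) h3
  funext n
  have h5 := congrFun h4 (e n)
  simp only [Function.comp, MulEquiv.symm_apply_apply] at h5 ⊢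
  exact h5.symm

/-- If there are two characters of a given degree and one is invariant, both are. -/
theorem inertia_of_card_two {S : Type*} [Group S] (e : N ≃* S) {c : ℂ}
    (h : Nat.card {χ : IrrCharacter S // (χ : S → ℂ) 1 = c} = 2) {θ' : N → ℂ} (hθ' : IsIrrCharacter N θ')
    (hc' : θ' 1 = c) (hinv : inertia N θ' = ⊤) {θ : N → ℂ} (hθ : IsIrrCharacter N θ)
    (hc : θ 1 = c) : inertia N θ = ⊤ := by
  rw [Subgroup.eq_top_iff']
  intro g
  rw [mem_inertia]
  by_cases hne : θ = θ'
  · subst hne
    have := (hinv ▸ Subgroup.mem_top g : g ∈ inertia N θ)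
    exact mem_inertia.1 this
  have hinj : ∀ a b : N → ℂ, a ∘ e.symm = b ∘ e.symm → a = b := by
    intro a b hab
    funext n
    have := congrFun hab (e n)
    simpa using this
  let mkI : ∀ a : N → ℂ, IsIrrCharacter N a → a 1 = c → {χ : IrrCharacter S // (χ : S → ℂ) 1 = c} :=
    fun a ha ha1 => ⟨⟨a ∘ e.symm, isIrr_comp e.symm.toMonoidHom e.symm.surjective ha⟩, by simpa using ha1⟩
  have hmk : ∀ a ha ha1 b hb hb1, mkI a ha ha1 = mkI b hb hb1 → a = b := by
    intro a ha ha1 b hb hb1 hab
    exact hinj _ _ (congrArg (fun x => (x.1 : S → ℂ)) hab)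
  have hg1 : (θ ∘ (MulAut.conjNormal g : MulAut N)) 1 = c := by simpa using hc
  obtain ⟨x, y, hxy, huniv⟩ := Nat.card_eq_two_iff.1 h
  have hall : ∀ z : {χ : IrrCharacter S // (χ : S → ℂ) 1 = c}, z = x ∨ z = y := by
    intro z
    have : z ∈ ({x, y} : Set _) := huniv ▸ Set.mem_univ z
    simpa using this
  have h1 := hall (mkI θ hθ hc)
  have h2 := hall (mkI θ' hθ' hc')
  have h3 := hall (mkI _ (isIrr_conj' hθ g) hg1)
  have hne' : mkI θ hθ hc ≠ mkI θ' hθ' hc' := fun h' => hne (hmk _ hθ hc _ hθ' hc' h')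
  have h4 : mkI _ (isIrr_conj' hθ g) hg1 = mkI θ hθ hc ∨ mkI _ (isIrr_conj' hθ g) hg1 = mkI θ' hθ' hc' := by
    rcases h1 with h1 | h1 <;> rcases h2 with h2 | h2 <;> rcases h3 with h3 | h3
    · exact absurd (h1.trans h2.symm) hne'
    · exact absurd (h1.trans h2.symm) hne'
    · exact Or.inl (h3.trans h1.symm)
    · exact Or.inr (h3.trans h2.symm)
    · exact Or.inr (h3.trans h2.symm)
    · exact Or.inl (h3.trans h1.symm)
    · exact absurd (h1.trans h2.symm) hne'
    · exact absurd (h1.trans h2.symm) hne'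
  rcases h4 with h4 | h4
  · exact hmk _ (isIrr_conj' hθ g) hg1 _ hθ hc h4
  · exfalso
    have h5 := hmk _ (isIrr_conj' hθ g) hg1 _ hθ' hc' h4
    have h6 : g⁻¹ ∈ inertia N θ' := hinv ▸ Subgroup.mem_top _
    have h7 := mem_inertia.1 h6
    apply hne
    rw [← h7, ← h5]
    funext n
    simp

/-- A character of `G` with the trivial character under it for `N ≥ G'` is linear. -/
theorem degree_one_of_over_one (hc : commutator G ≤ N) {χ : G → ℂ} (hχ : IsIrrCharacter G χ)
    (h : Over N.subtype χ (1 : N → ℂ)) : χ 1 = 1 := by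
  classical
  letI := Fintype.ofFinite N
  have h1 := (over_iff N.subtype χ (1 : N → ℂ)).1 h
  have h2 : ∑ n : N, χ n ≠ 0 := by
    intro h0
    apply h1
    rw [classInner_def]
    simp only [Function.comp, Subgroup.coe_subtype, Pi.one_apply, map_one, mul_one]
    rw [h0, mul_zero]
  obtain ⟨χ', hχ'⟩ := Cfsg.Agent.Blocks.Deflate.exists_deflation N χ hχ h2
  have hab : ∀ a b : G ⧸ N, a * b = b * a := by
    intro a b
    obtain ⟨a, rfl⟩ := QuotientGroup.mk_surjective a
    obtain ⟨b, rfl⟩ := QuotientGroup.mk_surjective b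
    rw [← QuotientGroup.mk_mul, ← QuotientGroup.mk_mul, QuotientGroup.eq]
    apply hc
    have h3 := Subgroup.commutator_mem_commutator (Subgroup.mem_top b⁻¹) (Subgroup.mem_top a⁻¹)
    rw [commutatorElement_def] at h3
    have h4 : (a * b)⁻¹ * (b * a) = b⁻¹ * a⁻¹ * b⁻¹⁻¹ * a⁻¹⁻¹ := by group
    rw [h4]
    exact h3
  have h3 := S0187.result.1 hab χ'
  rw [hχ']
  exact h3

end inv

section main

variable {G : Type*} [Group G] [Finite G] {F : Type*} [Field F] [Fintype F]

local notation "SL" => Matrix.SpecialLinearGroup (Fin 2) F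

theorem le_of_mem (h5 : 5 ≤ Fintype.card F) (hD : charDegrees G = Cfsg.Agent.H691.DS (Fintype.card F)) {n : ℕ}
    (hn : n ∈ charDegrees G) : n ≤ Fintype.card F + 1 := by
  rw [hD] at hn
  rcases hn with hn | hn | hn | hn | hn | hn <;> omega

/-- large degrees: invariance -/
theorem inertia_of_large (h5 : 5 ≤ Fintype.card F) (hD : charDegrees G = Cfsg.Agent.H691.DS (Fintype.card F))
    (N : Subgroup G) [N.Normal] {θ : N → ℂ} (hθ : IsIrrCharacter N θ) {d : ℕ} (hd : θ 1 = d)
    (hdq : Fintype.card F - 1 ≤ d) : inertia N θ = ⊤ := by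
  obtain ⟨χ, hχ, hover⟩ := exists_over_subtype N hθ
  have h1 := index_mul_charDegree_dvd N hχ hθ hover
  rw [charDegree_of_eq hd] at h1
  have h2 : charDegree χ ∈ charDegrees G := ⟨⟨χ, hχ⟩, rfl⟩
  have h3 := le_of_mem h5 hD h2
  have h4 := pos_of_mem h2
  have h5' := Nat.le_of_dvd h4 h1
  rw [← Subgroup.index_eq_one]
  by_contra hne
  have h6 : (inertia N θ).index ≠ 0 := Subgroup.index_ne_zero_of_finite
  have h7 : 2 ≤ (inertia N θ).index := by omega
  have h8 : 2 * d ≤ (inertia N θ).index * d := Nat.mul_le_mul_right _ h7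
  omega

variable (h5 : 5 ≤ Fintype.card F) (hD : charDegrees G = Cfsg.Agent.H691.DS (Fintype.card F))
  (e : ↥(commutator G) ≃* Matrix.SpecialLinearGroup (Fin 2) F)

include h5 hD e

/-- the degrees of the derived subgroup -/
theorem degree_cases {θ : commutator G → ℂ} (hθ : IsIrrCharacter (commutator G) θ) :
    ∃ d : ℕ, θ 1 = d ∧ (d = 1 ∨ Fintype.card F - 1 ≤ d ∨
      (Odd (Fintype.card F) ∧ (d = (Fintype.card F + 1) / 2 ∨ d = (Fintype.card F - 1) / 2))) := by
  have h1 : IsIrrCharacter SL (θ ∘ e.symm) := isIrr_comp e.symm.toMonoidHom e.symm.surjective hθ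
  have h2 : (θ ∘ e.symm) 1 = θ 1 := by simp
  obtain ⟨d, hd0, hd⟩ := isIrr_apply_one hθ
  refine ⟨d, hd, ?_⟩
  rcases Nat.even_or_odd (Fintype.card F) with hev | hodd
  · have hc2 : ringChar F = 2 := FiniteField.even_card_iff_char_two.2 (Nat.even_iff.1 hev)
    haveI : CharP F 2 := by rw [← hc2]; exact ringChar.charP F
    have h3 := (S2300.result (F := F)).1 _ h1
    rw [h2, hd] at h3
    rcases h3 with h3 | h3 | h3 | h3
    · left; exact_mod_cast h3
    · right; left
      have : d = Fintype.card F - 1 := by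
        have h4 : (d : ℂ) = ((Fintype.card F - 1 : ℕ) : ℂ) := by
          rw [h3, Nat.cast_sub (by omega)]; simp
        exact_mod_cast h4
      omega
    · right; left
      have : d = Fintype.card F := by exact_mod_cast h3
      omega
    · right; left
      have : d = Fintype.card F + 1 := by exact_mod_cast h3
      omega
  · have h3 := (S2299.result hodd).1 _ h1
    rw [h2, hd] at h3
    rcases h3 with h3 | h3 | h3 | h3 | h3 | h3
    · left; exact_mod_cast h3
    · right; left
      have : d = Fintype.card F := by exact_mod_cast h3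
      omega
    · right; left
      have : d = Fintype.card F + 1 := by exact_mod_cast h3
      omega
    · right; left
      have : d = Fintype.card F - 1 := by
        have h4 : (d : ℂ) = ((Fintype.card F - 1 : ℕ) : ℂ) := by
          rw [h3, Nat.cast_sub (by omega)]; simp
        exact_mod_cast h4
      omega
    · right; right
      exact ⟨hodd, Or.inl (by exact_mod_cast h3)⟩
    · right; right
      exact ⟨hodd, Or.inr (by exact_mod_cast h3)⟩

/-- degree one: the trivial character -/
theorem eq_one_of_degree_one {θ : commutator G → ℂ} (hθ : IsIrrCharacter (commutator G) θ)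
    (h1 : θ 1 = 1) : θ = 1 := by
  have hcard : Nat.card {χ : IrrCharacter SL // (χ : SL → ℂ) 1 = 1} = 1 := by
    rcases Nat.even_or_odd (Fintype.card F) with hev | hodd
    · have hc2 : ringChar F = 2 := FiniteField.even_card_iff_char_two.2 (Nat.even_iff.1 hev)
      haveI : CharP F 2 := by rw [← hc2]; exact ringChar.charP F
      exact ((S2300.result (F := F)).2 (by omega)).1
    · exact ((S2299.result hodd).2 h5).1
  have hs := (Nat.card_eq_one_iff_unique.1 hcard).1
  have h2 : IsIrrCharacter SL (θ ∘ e.symm) := isIrr_comp e.symm.toMonoidHom e.symm.surjective hθ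
  have h3 : (⟨⟨_, h2⟩, by simpa using h1⟩ : {χ : IrrCharacter SL // (χ : SL → ℂ) 1 = 1}) =
      ⟨⟨1, isIrr_one⟩, rfl⟩ := Subsingleton.elim _ _
  have h4 : θ ∘ e.symm = (1 : SL → ℂ) := congrArg (fun x => (x.1 : SL → ℂ)) h3
  funext n
  have h5 := congrFun h4 (e n)
  simpa using h5

/-- Step 1: every irreducible character of the derived subgroup is invariant. -/
theorem inertia_eq_top {θ : commutator G → ℂ} (hθ : IsIrrCharacter (commutator G) θ) :
    inertia (commutator G) θ = ⊤ := by
  classical
  obtain ⟨d, hd, hcase⟩ := degree_cases h5 hD e hθ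
  rcases hcase with rfl | hcase | ⟨hodd, hcase⟩
  · -- degree one
    have h1 := eq_one_of_degree_one h5 hD e hθ (by rw [hd, Nat.cast_one])
    subst h1
    rw [Subgroup.eq_top_iff']
    intro g
    rw [mem_inertia]
    rfl
  · exact inertia_of_large h5 hD (commutator G) hθ hd hcase
  · -- the middle degrees
    have hmem : d ∈ charDegrees G := by
      rw [hD]
      obtain ⟨k, hk⟩ := hodd
      rcases hcase with h1 | h1
      · exact Or.inr (Or.inr (Or.inr (Or.inr (Or.inl (by omega)))))
      · exact Or.inr (Or.inr (Or.inr (Or.inr (Or.inr (by omega)))))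
    obtain ⟨χ, hχ, hχd⟩ := mem_charDegrees.1 hmem
    obtain ⟨θ', hθ', hover⟩ := exists_under (f := (commutator G).subtype) hχ
    obtain ⟨d', hd', hcase'⟩ := degree_cases h5 hD e hθ'
    have hdvd := (charDegree_dvd_of_over (commutator G) hχ hθ' hover).1
    rw [charDegree_of_eq hd', charDegree_of_eq hχd] at hdvd
    have hdpos : 0 < d := pos_of_mem hmem
    have hle := Nat.le_of_dvd hdpos hdvd
    have hd'ne : d' ≠ 1 := by
      rintro rfl
      have h1 := eq_one_of_degree_one h5 hD e hθ' (by rw [hd', Nat.cast_one])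
      subst h1
      have h2 := degree_one_of_over_one (N := commutator G) le_rfl hχ hover
      rw [hχd] at h2
      have h3 : d = 1 := by exact_mod_cast h2
      omega
    have hdd : d' = d := by
      obtain ⟨k, hk⟩ := hodd
      rcases hcase' with h1 | h1 | ⟨-, h1 | h1⟩
      · exact absurd h1 hd'ne
      · omega
      · omega
      · rcases hcase with h2 | h2
        · exfalso
          have e1 : d = d' + 1 := by omega
          rw [e1] at hdvd
          have e2 := (Nat.dvd_add_right (dvd_refl d')).1 hdvd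
          exact hd'ne (Nat.dvd_one.1 e2)
        · omega
    subst hdd
    have hres : χ ∘ (commutator G).subtype = θ' := by
      refine eq_of_over_of_charDegree_eq hχ hθ' hover ?_
      rw [charDegree_of_eq hd', charDegree_of_eq hχd]
    have hinv : inertia (commutator G) θ' = ⊤ := by
      rw [Subgroup.eq_top_iff']
      intro g
      rw [mem_inertia, ← hres]
      exact Cfsg.Agent.Characters.Clifford.restrict_comp_conjNormal (isIrr_isClassFunction hχ) g
    have hcard : Nat.card {χ : IrrCharacter SL // (χ : SL → ℂ) 1 = (d' : ℂ)} = 2 := by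
      have h6 := (S2299.result hodd).2 h5
      rcases hcase with h1 | h1
      · rw [h1]; exact h6.2.2.2.2.1
      · rw [h1]; exact h6.2.2.2.2.2
    exact inertia_of_card_two e hcard hθ' hd' hinv hθ hd

/-- Step 2: `G = G' C_G(G')`. -/
theorem sup_eq_top : commutator G ⊔ Subgroup.centralizer (commutator G : Set G) = ⊤ := by
  classical
  rw [Subgroup.eq_top_iff']
  intro g
  have hconj : ∀ n : commutator G, IsConj ((MulAut.conjNormal g : MulAut (commutator G)) n) n := by
    intro n
    apply Cfsg.Agent.Characters.GaloisIrr.isConj_of_forall_irr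
    intro θ hθ
    have h1 : g ∈ inertia (commutator G) θ := by
      rw [inertia_eq_top h5 hD e hθ]; exact Subgroup.mem_top g
    exact congrFun (mem_inertia.1 h1) n
  let α : MulAut SL := (e.symm.trans (MulAut.conjNormal g : MulAut (commutator G))).trans e
  have hα : ∀ x, IsConj (α x) x := by
    intro x
    have h1 := e.toMonoidHom.map_isConj (hconj (e.symm x))
    simpa [α] using h1
  obtain ⟨s, hs⟩ := Cfsg.Agent.H279.SLClass.inner_of_isConj α hα
  set h : commutator G := e.symm s with hh
  have hkey : ∀ n : commutator G, g * (n : G) * g⁻¹ = (h : G) * n * (h : G)⁻¹ := by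
    intro n
    have h1 := hs (e n)
    have h2 : (MulAut.conjNormal g : MulAut (commutator G)) n = h * n * h⁻¹ := by
      apply e.injective
      rw [map_mul, map_mul, map_inv, hh, MulEquiv.apply_symm_apply, ← h1]
      simp [α]
    have h3 := congrArg Subtype.val h2
    rw [MulAut.conjNormal_apply] at h3
    simpa using h3
  have hmem : (h : G)⁻¹ * g ∈ Subgroup.centralizer (commutator G : Set G) := by
    rw [Subgroup.mem_centralizer_iff]
    intro n hn
    have h1 := hkey ⟨n, hn⟩
    have h2 : g * n = (h : G) * n * (h : G)⁻¹ * g := by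
      rw [← h1]; group
    have h3 : (h : G)⁻¹ * (g * n) = (h : G)⁻¹ * ((h : G) * n * (h : G)⁻¹ * g) := by rw [h2]
    have h4 : (h : G)⁻¹ * ((h : G) * n * (h : G)⁻¹ * g) = n * ((h : G)⁻¹ * g) := by group
    rw [h4, ← mul_assoc] at h3
    exact h3.symm
  have hg : g = (h : G) * ((h : G)⁻¹ * g) := by group
  rw [hg]
  exact Subgroup.mul_mem_sup h.2 hmem

omit hD e [Finite G] in
/-- a faithful irreducible character of degree `q + 1` of `SL₂(q)`, `q` odd -/
theorem exists_faithful (hodd : Odd (Fintype.card F)) : ∃ θ : SL → ℂ, IsIrrCharacter SL θ ∧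
    θ 1 = (Fintype.card F : ℂ) + 1 ∧
    ∀ z ∈ Subgroup.center SL, z ≠ 1 → z * z = 1 ∧ θ z = -θ 1 := by
  classical
  -- a faithful character of the units
  obtain ⟨γ, hγ⟩ := IsCyclic.exists_generator (α := Fˣ)
  have hcard : Nat.card Fˣ = Fintype.card F - 1 := by
    rw [Nat.card_units, Nat.card_eq_fintype_card]
  have hord : orderOf γ = Nat.card Fˣ := orderOf_eq_card_of_forall_mem_zpowers hγ
  have hn : Nat.card Fˣ ≠ 0 := by omega
  obtain ⟨ζ, hζ⟩ : ∃ ζ : ℂˣ, orderOf ζ = Nat.card Fˣ := by
    have h1 := Complex.isPrimitiveRoot_exp (Nat.card Fˣ) hn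
    obtain ⟨u, hu⟩ := h1.isUnit hn
    refine ⟨u, ?_⟩
    rw [← orderOf_units, hu]
    exact h1.eq_orderOf.symm
  have hdvd : orderOf ζ ∣ orderOf γ := by rw [hζ, hord]
  have hgen := monoidHomOfForallMemZpowers_apply_gen hγ hdvd
  set ψ := monoidHomOfForallMemZpowers hγ hdvd with hψ
  have hinj : ∀ x : Fˣ, ψ x = 1 → x = 1 := by
    intro x hx
    obtain ⟨k, rfl⟩ := Subgroup.mem_zpowers_iff.1 (hγ x)
    rw [map_zpow, hgen] at hx
    rw [← orderOf_dvd_iff_zpow_eq_one, hζ, ← hord] at hx
    exact orderOf_dvd_iff_zpow_eq_one.1 hx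
  have h2F : (2 : F) ≠ 0 := by
    intro h0
    have hc2 : ringChar F = 2 := by
      haveI := ringChar.charP F
      have h3 : ringChar F ∣ 2 := (ringChar.spec F 2).1 (by exact_mod_cast h0)
      have h4 : ringChar F ≠ 1 := CharP.ringChar_ne_one
      exact (Nat.dvd_prime Nat.prime_two).1 h3 |>.resolve_left h4
    have := FiniteField.even_card_iff_char_two.1 hc2
    rw [Nat.odd_iff] at hodd
    omega
  have hneg : (-1 : Fˣ) ≠ 1 := by
    intro h0
    have h1 : ((-1 : Fˣ) : F) = 1 := by rw [h0, Units.val_one]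
    rw [Units.val_neg, Units.val_one] at h1
    apply h2F
    linear_combination -h1
  have hψneg : (ψ (-1) : ℂ) = -1 := by
    have h1 : ψ (-1) * ψ (-1) = 1 := by rw [← map_mul]; simp
    have h2 : ((ψ (-1) : ℂˣ) : ℂ) * ψ (-1) = 1 := by
      rw [← Units.val_mul, h1, Units.val_one]
    have h3 : ψ (-1) ≠ 1 := fun h' => hneg (hinj _ h')
    have h4 : ((ψ (-1) : ℂˣ) : ℂ) ≠ 1 := fun h' => h3 (Units.ext h')
    have h5 : (((ψ (-1) : ℂˣ) : ℂ) - 1) * (((ψ (-1) : ℂˣ) : ℂ) + 1) = 0 := by ring_nf; rw [sq, h2]; ring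
    rcases mul_eq_zero.1 h5 with h6 | h6
    · exact absurd (sub_eq_zero.1 h6) h4
    · exact eq_neg_of_add_eq_zero_left h6
  set α : MulChar F ℂ := MulChar.ofUnitHom ψ with hα
  have hαu : ∀ a : Fˣ, α a = ψ a := fun a => by rw [hα, MulChar.ofUnitHom_coe]
  have hne : ¬ α = α⁻¹ := by
    intro h
    have h5' : α γ = α⁻¹ γ := by rw [← h]
    rw [MulChar.inv_apply_eq_inv', hαu] at h5'
    have h6 : (ψ γ : ℂ) * ψ γ = 1 := by
      nth_rw 2 [h5']
      exact mul_inv_cancel₀ (Units.ne_zero _)
    have h7 : ζ ^ 2 = 1 := by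
      rw [hgen] at h6
      apply Units.ext
      rw [Units.val_pow_eq_pow_val, sq, h6, Units.val_one]
    have h8 := Nat.le_of_dvd (by norm_num) (orderOf_dvd_of_pow_eq_one h7)
    omega
  have hirr : IsIrrCharacter SL (Cfsg.Agent.H984.SLTwo.R α) := by
    apply isIrr_of_classInner_self (Cfsg.Agent.H984.SLTwo.isCharacter_R α)
    rw [Cfsg.Agent.H984.SLTwo.classInner_R_R, if_pos rfl, if_neg hne, add_zero]
  have hR1 : (Cfsg.Agent.H984.SLTwo.R α : SL → ℂ) 1 = (Fintype.card F : ℂ) + 1 := by
    have h := Cfsg.Agent.H984.SLTwo.R_upp_zero α (inv_one : (1 : Fˣ)⁻¹ = 1)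
    rw [Cfsg.Agent.H984.SLTwo.upp_one_zero, Units.val_one, map_one, mul_one] at h
    exact h
  have hRz : (Cfsg.Agent.H984.SLTwo.R α : SL → ℂ) Cfsg.Agent.H984.SLTwo.z0 =
      -((Fintype.card F : ℂ) + 1) := by
    have h := Cfsg.Agent.H984.SLTwo.R_upp_zero α (Cfsg.Agent.H984.SLTwo.neg_one_inv (F := F))
    rw [hαu, hψneg] at h
    rw [Cfsg.Agent.H984.SLTwo.z0, h]; ring
  refine ⟨_, hirr, hR1, fun z hz hz1 => ?_⟩
  rcases Cfsg.Agent.H672.SL2Graph.mem_center_cases hz with rfl | rfl
  · exact absurd rfl hz1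
  · exact ⟨Cfsg.Agent.H984.SLTwo.z0_mul_self, by rw [hRz, hR1]⟩

/-- Step 3: the centralizer of the derived subgroup is abelian. -/
theorem centralizer_comm (a b : Subgroup.centralizer (commutator G : Set G)) : a * b = b * a := by
  classical
  by_contra hab
  have hnc : ¬ ∀ a b : Subgroup.centralizer (commutator G : Set G), a * b = b * a := fun h => hab (h a b)
  rw [S0187.result] at hnc
  push Not at hnc
  obtain ⟨ψ, hψ1⟩ := hnc
  -- an element of the derived subgroup of the centralizer outside the kernel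
  obtain ⟨c, hc, hcψ⟩ : ∃ c ∈ commutator (Subgroup.centralizer (commutator G : Set G)),
      (ψ : Subgroup.centralizer (commutator G : Set G) → ℂ) c ≠
        (ψ : Subgroup.centralizer (commutator G : Set G) → ℂ) 1 := by
    by_contra hcon
    push Not at hcon
    obtain ⟨χ', h1, h2⟩ := Cfsg.Agent.OddOrderCharacters.PF9.Reducible.exists_of_surjective
      (QuotientGroup.mk' (commutator (Subgroup.centralizer (commutator G : Set G))))
      (QuotientGroup.mk'_surjective _) ψ.2 (fun g hg => hcon g ((QuotientGroup.eq_one_iff g).1 hg))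
    have hab' : ∀ a b : (Subgroup.centralizer (commutator G : Set G)) ⧸
        commutator (Subgroup.centralizer (commutator G : Set G)), a * b = b * a :=
      fun a b => mul_comm (G := Abelianization (Subgroup.centralizer (commutator G : Set G))) a b
    have h3 := S0187.result.1 hab' ⟨χ', h1⟩
    apply hψ1
    rw [← h2 1, map_one]
    exact h3
  have hcG : (c : G) ∈ commutator G := by
    have h1 : ∀ C : Subgroup G, (commutator C).map C.subtype ≤ commutator G := by
      intro C
      rw [commutator_def C, Subgroup.map_commutator, commutator_def]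
      exact Subgroup.commutator_mono le_top le_top
    exact h1 _ ⟨c, hc, rfl⟩
  have hcz : ∀ n : G, n ∈ commutator G → n * c = c * n := fun n hn =>
    Subgroup.mem_centralizer_iff.1 c.2 n hn
  set z : commutator G := ⟨c, hcG⟩ with hz
  have hcne : c ≠ 1 := fun h => hcψ (by rw [h])
  have hzne : e z ≠ 1 := by
    intro h
    have h1 : z = 1 := e.injective (by rw [h, map_one])
    apply hcne
    apply Subtype.ext
    exact congrArg (fun x : commutator G => (x : G)) h1
  have hzc : e z ∈ Subgroup.center SL := by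
    rw [Subgroup.mem_center_iff]
    intro x
    have h1 : e.symm x * z = z * e.symm x := Subtype.ext (hcz _ (e.symm x).2)
    have h2 := congrArg e h1
    simpa using h2
  have hcases : ∀ x ∈ Subgroup.center SL, x = 1 ∨ x = e z := by
    intro x hx
    rcases Cfsg.Agent.H672.SL2Graph.mem_center_cases hx with h1 | h1
    · exact Or.inl h1
    · rcases Cfsg.Agent.H672.SL2Graph.mem_center_cases hzc with h2 | h2
      · exact absurd h2 hzne
      · exact Or.inr (h1.trans h2.symm)
  -- the field is odd
  have hodd : Odd (Fintype.card F) := by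
    by_contra hev
    rw [Nat.not_odd_iff_even] at hev
    have hc2 : ringChar F = 2 := FiniteField.even_card_iff_char_two.2 (Nat.even_iff.1 hev)
    haveI : CharP F 2 := by rw [← hc2]; exact ringChar.charP F
    rcases Cfsg.Agent.H672.SL2Graph.mem_center_cases hzc with h2 | h2
    · exact hzne h2
    · apply hzne
      rw [h2, Cfsg.Agent.H984.SLTwo.z0]
      have h3 : (-1 : Fˣ) = 1 := by
        apply Units.ext
        rw [Units.val_neg, Units.val_one, CharTwo.neg_eq]
      rw [h3, Cfsg.Agent.H984.SLTwo.upp_one_zero]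
  obtain ⟨θ, hθ, hθ1, hθz⟩ := exists_faithful h5 (F := F) hodd
  obtain ⟨hzz, hθz'⟩ := hθz (e z) hzc hzne
  have hcc : c * c = 1 := by
    have h1 : z * z = 1 := e.injective (by rw [map_mul, hzz, map_one])
    apply Subtype.ext
    exact congrArg (fun x : commutator G => (x : G)) h1
  have hccen : c ∈ Subgroup.center (Subgroup.centralizer (commutator G : Set G)) := by
    rw [Subgroup.mem_center_iff]
    intro x
    apply Subtype.ext
    exact (Subgroup.mem_centralizer_iff.1 x.2 c hcG).symm
  -- the value of `ψ` at `c`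
  have hψc : (ψ : Subgroup.centralizer (commutator G : Set G) → ℂ) c =
      -(ψ : Subgroup.centralizer (commutator G : Set G) → ℂ) 1 := by
    letI := Fintype.ofFinite (Subgroup.centralizer (commutator G : Set G))
    obtain ⟨w, -, hw⟩ := Cfsg.Agent.CharDeep.DegreeBound.exists_omega ψ.2 hccen
    have h1 := hw 1
    rw [one_mul] at h1
    have h2 := hw c
    rw [hcc, h1] at h2
    have hne := isIrr_apply_one_ne_zero ψ.2
    have h3 : (w - 1) * (w + 1) = 0 := by
      have h4 : w * w = 1 := by
        apply mul_right_cancel₀ hne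
        rw [one_mul, mul_assoc]
        exact h2.symm
      linear_combination h4
    rcases mul_eq_zero.1 h3 with h4 | h4
    · exfalso
      apply hcψ
      rw [h1, sub_eq_zero.1 h4, one_mul]
    · rw [h1, eq_neg_of_add_eq_zero_left h4]; ring
  -- the product character
  have hθ' : IsIrrCharacter (commutator G) (θ ∘ e) := isIrr_comp e.toMonoidHom e.surjective hθ
  have hprod := Cfsg.Agent.S0188.isIrr_outer hθ' ψ.2
  obtain ⟨χ, hχ, hχ'⟩ := Cfsg.Agent.OddOrderCharacters.PF9.Reducible.exists_of_surjective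
    (Cfsg.Agent.Blocks.CentralProduct.mulHom (commutator G))
    (Cfsg.Agent.Blocks.CentralProduct.mulHom_surjective (sup_eq_top h5 hD e)) hprod (by
      rintro ⟨n, x⟩ hnx
      rw [Cfsg.Agent.Blocks.CentralProduct.mulHom_apply] at hnx
      have hnx' : (n : G) * (x : G) = 1 := hnx
      have hn : (n : G) = (x : G)⁻¹ := eq_inv_of_mul_eq_one_left hnx'
      have hncen : e n ∈ Subgroup.center SL := by
        rw [Subgroup.mem_center_iff]
        intro y
        have h1 : e.symm y * n = n * e.symm y := by
          apply Subtype.ext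
          rw [Subgroup.coe_mul, Subgroup.coe_mul, hn]
          exact Subgroup.mem_centralizer_iff.1 (Subgroup.inv_mem _ x.2) _ (e.symm y).2
        have h2 := congrArg e h1
        simpa using h2
      change θ (e n) * (ψ : Subgroup.centralizer (commutator G : Set G) → ℂ) x =
        θ (e 1) * (ψ : Subgroup.centralizer (commutator G : Set G) → ℂ) 1
      rw [map_one]
      rcases hcases _ hncen with h1 | h1
      · have h2 : n = 1 := e.injective (by rw [h1, map_one])
        have h3 : x = 1 := by
          apply Subtype.ext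
          rw [h2] at hnx'
          simpa using hnx'
        rw [h1, h3]
      · have h2 : n = z := e.injective h1
        have h3 : x = c := by
          apply Subtype.ext
          rw [h2] at hnx'
          have h4 : (c : G) * (x : G) = 1 := hnx'
          have h5' : (c : G) * (c : G) = 1 := congrArg Subtype.val hcc
          exact mul_left_cancel (h4.trans h5'.symm)
        rw [h1, h3, hθz', hψc]; ring)
  have hχ1 : χ 1 = θ 1 * (ψ : Subgroup.centralizer (commutator G : Set G) → ℂ) 1 := by
    have h1 := hχ' 1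
    rw [map_one] at h1
    rw [h1]
    change θ (e 1) * _ = _
    rw [map_one]
    rfl
  obtain ⟨m, hm0, hm⟩ := isIrr_apply_one ψ.2
  have hm1 : m ≠ 1 := by
    rintro rfl
    exact hψ1 (by rw [hm, Nat.cast_one])
  have hmem : (Fintype.card F + 1) * m ∈ charDegrees G := by
    refine mem_charDegrees.2 ⟨χ, hχ, ?_⟩
    rw [hχ1, hθ1, hm]; push_cast; ring
  have hle := le_of_mem h5 hD hmem
  have : 2 ≤ m := by omega
  nlinarith

/-- **Part F2 of S4854**: a finite group with the character degrees of `SL₂(q)`, `q ≥ 5`, and derived subgroup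
`SL₂(q)` is the central product of its derived subgroup and of an abelian group. -/
theorem central_product : IsMulCommutative (Subgroup.centralizer (commutator G : Set G)) ∧
      commutator G ⊔ Subgroup.centralizer (commutator G : Set G) = ⊤ :=
  ⟨⟨⟨centralizer_comm h5 hD e⟩⟩, sup_eq_top h5 hD e⟩

end main

end Cfsg.Agent.H279.CentProd
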