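import Cfsg.Agent.H279.Subsets
import Cfsg.Agent.H686.CharKit
import Cfsg.Agent.J3Type.CharTools

/-!
# An almost simple group with socle `A_n`, `n ≥ 7`, has five character degrees (S4898, task 542; helper279)
-/

set_option autoImplicit false

namespace Cfsg.Agent.H279.FiveAlt

open Cfsg Cfsg.Agent.Characters.Core MulAction Equiv Cfsg.Agent.H464.PermIrr Cfsg.Agent.H681.DegBasic

universe u

section Chars

variable {G : Type*} [Group G] [Finite G] {n : ℕ} (φ : G →* Perm (Fin n)) (h : alternatingGroup (Fin n) ≤ φ.range)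

omit [Finite G] in
theorem trans_of_range {m : ℕ} (hn : m + 2 ≤ n) (φ : G →* Perm (Fin n)) (h : alternatingGroup (Fin n) ≤ φ.range) :
    letI := MulAction.compHom (Fin n) φ
    IsMultiplyPretransitive G (Fin n) m := by
  let _ := MulAction.compHom (Fin n) φ
  have h1 : IsMultiplyPretransitive (alternatingGroup (Fin n)) (Fin n) (Nat.card (Fin n) - 2) :=
    alternatingGroup.isMultiplyPretransitive (Fin n)
  have h2 : IsMultiplyPretransitive (alternatingGroup (Fin n)) (Fin n) m :=
    isMultiplyPretransitive_of_le (n := Nat.card (Fin n) - 2) (by simp; omega) (by simp)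
  rw [isMultiplyPretransitive_iff] at h2 ⊢
  intro x y
  obtain ⟨g, hg⟩ := h2 x y
  obtain ⟨g', hg'⟩ := h g.2
  refine ⟨g', ?_⟩
  rw [← hg]
  apply Function.Embedding.ext
  intro i
  rw [Function.Embedding.smul_apply, Function.Embedding.smul_apply]
  change (φ g') (x i) = (g : Perm (Fin n)) (x i)
  rw [hg']

include h

theorem mem_one (hn : 7 ≤ n) : n - 1 ∈ charDegrees G := by
  refine mem_charDegrees.2 ⟨_, Cfsg.Agent.H464.AltExt.chi1_irr φ (by omega) h, ?_⟩
  rw [Cfsg.Agent.H464.AltExt.chi1_one, Nat.cast_sub (by omega), Nat.cast_one]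

theorem mem_two (hn : 7 ≤ n) : n.choose 2 - n ∈ charDegrees G := by
  have hle : n ≤ n.choose 2 := by
    rw [Nat.choose_two_right, Nat.le_div_iff_mul_le (by norm_num)]
    exact Nat.mul_le_mul_left n (by omega)
  refine mem_charDegrees.2 ⟨_, Cfsg.Agent.H464.AltExt.chi2_irr φ (by omega) h, ?_⟩
  rw [Cfsg.Agent.H464.AltExt.chi2_one, Nat.cast_sub hle]

theorem mem_three (hn : 7 ≤ n) : (n - 1).choose 2 ∈ charDegrees G := by
  have := Fintype.ofFinite G
  let _ := MulAction.compHom (Fin n) φ
  have h4 : IsMultiplyPretransitive G (Fin n) 4 := trans_of_range (by omega) φ h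
  refine mem_charDegrees.2 ⟨_, Cfsg.Agent.H621.AltChar.irr_b G (Fin n) (by simp; omega) h4, ?_⟩
  rw [Cfsg.Agent.H621.AltChar.nf_one, Cfsg.Agent.H621.AltChar.nu_one, Nat.card_eq_fintype_card, Fintype.card_fin]
  obtain ⟨m, rfl⟩ : ∃ m, n = m + 2 := ⟨n - 2, by omega⟩
  have h5 : 2 * (m + 1).choose 2 = (m + 1) * m := by
    rw [Nat.choose_two_right]
    exact Nat.mul_div_cancel' (Nat.even_mul_pred_self (m + 1)).two_dvd
  have h6 : (2 : ℂ) * ((m + 1).choose 2 : ℕ) = (m + 1) * m := by exact_mod_cast h5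
  have e : m + 2 - 1 = m + 1 := rfl
  rw [e]
  push_cast
  rw [div_eq_iff two_ne_zero]
  linear_combination -h6

theorem mem_four (hn : 8 ≤ n) : n.choose 3 - n.choose 2 ∈ charDegrees G := by
  let _ := MulAction.compHom (Fin n) φ
  have h6 : IsMultiplyPretransitive G (Fin n) 6 := trans_of_range (by omega) φ h
  refine mem_charDegrees.2 ⟨_, Cfsg.Agent.H279.Subsets.irr_triples G (Ω := Fin n) (by simp; omega), ?_⟩
  rw [Pi.sub_apply, pc_one, pc_one, Set.powersetCard.card, Set.powersetCard.card, Nat.card_eq_fintype_card,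
    Fintype.card_fin, Nat.cast_sub (Cfsg.Agent.H279.Subsets.choose_lt (by omega)).le]

end Chars

theorem finite_charDegrees (G : Type u) [Group G] [Finite G] : (charDegrees G).Finite :=
  (Set.finite_Iic (Nat.card G)).subset fun _ hd => Nat.le_of_dvd Nat.card_pos (dvd_card hd)

theorem five_of_lt {s : Set ℕ} (hs : s.Finite) {a b c d e : ℕ} (ha : a ∈ s) (hb : b ∈ s) (hc : c ∈ s) (hd : d ∈ s)
    (he : e ∈ s) (h1 : a < b) (h2 : b < c) (h3 : c < d) (h4 : d < e) : 5 ≤ s.ncard := by
  have h5 : ({a, b, c, d, e} : Finset ℕ).card = 5 := by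
    rw [Finset.card_insert_of_notMem, Finset.card_insert_of_notMem, Finset.card_insert_of_notMem,
      Finset.card_insert_of_notMem, Finset.card_singleton] <;> simp <;> omega
  rw [← h5, ← Set.ncard_coe_finset]
  apply Set.ncard_le_ncard _ hs
  intro x hx
  simp only [Finset.coe_insert, Finset.coe_singleton, Set.mem_insert_iff, Set.mem_singleton_iff] at hx
  rcases hx with rfl | rfl | rfl | rfl | rfl <;> assumption

theorem two_mul_choose (n : ℕ) : 2 * (n + 1).choose 2 = (n + 1) * n := by
  rw [Nat.choose_two_right]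
  exact Nat.mul_div_cancel' (Nat.even_mul_pred_self (n + 1)).two_dvd

theorem five_ge {G : Type u} [Group G] [Finite G] {n : ℕ} (hn : 8 ≤ n) (φ : G →* Perm (Fin n))
    (h : alternatingGroup (Fin n) ≤ φ.range) : 5 ≤ (charDegrees G).ncard := by
  have h1 : n.choose 3 * 3 = n.choose 2 * (n - 2) := Nat.choose_succ_right_eq n 2
  obtain ⟨m, rfl⟩ : ∃ m, n = m + 8 := ⟨n - 8, by omega⟩
  have h2 := two_mul_choose (m + 7)
  have h3 := two_mul_choose (m + 6)
  have e1 : m + 8 - 2 = m + 6 := rfl
  have e2 : m + 8 - 1 = m + 6 + 1 := rfl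
  have e3 : m + 7 + 1 = m + 8 := rfl
  rw [e1] at h1
  rw [e3] at h2
  refine five_of_lt (finite_charDegrees G) one_mem (mem_one φ h (by omega)) (mem_two φ h (by omega))
    (mem_three φ h (by omega)) (mem_four φ h hn) (by omega) ?_ ?_ ?_
  · have : 2 * (m + 8 - 1 + (m + 8)) < 2 * (m + 8).choose 2 := by
      rw [h2]
      have : m + 8 - 1 = m + 7 := rfl
      rw [this]
      nlinarith
    omega
  · have : 2 * (m + 8).choose 2 < 2 * ((m + 6 + 1).choose 2 + (m + 8)) := by
      nlinarith
    have hpos : 0 < (m + 6 + 1).choose 2 := Nat.choose_pos (by omega)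
    rw [e2]
    omega
  · have h4 : (m + 8).choose 3 * 6 = (m + 8) * (m + 7) * (m + 6) := by
      rw [← h2]
      linear_combination 2 * h1
    have : 6 * ((m + 6 + 1).choose 2 + (m + 8).choose 2) < 6 * (m + 8).choose 3 := by
      have h5 : 6 * (m + 6 + 1).choose 2 = 3 * ((m + 6 + 1) * (m + 6)) := by rw [← h3]; ring
      have h6 : 6 * (m + 8).choose 2 = 3 * ((m + 8) * (m + 7)) := by rw [← h2]; ring
      rw [mul_add, h5, h6, mul_comm 6, h4]
      have h7 : 3 * (m + 6) + 3 * (m + 8) < (m + 8) * (m + 6) := by nlinarith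
      calc 3 * ((m + 6 + 1) * (m + 6)) + 3 * ((m + 8) * (m + 7)) = (3 * (m + 6) + 3 * (m + 8)) * (m + 7) := by ring
        _ < (m + 8) * (m + 6) * (m + 7) := Nat.mul_lt_mul_of_pos_right h7 (by omega)
        _ = _ := by ring
    rw [e2]
    omega

/-! ### the case `n = 7` -/

open Classical in
/-- A rational element `x` of prime order `p`: at most `|C(x)|` irreducible characters have degree prime to `p`. -/
theorem card_le {G : Type u} [Group G] [Finite G] [Fintype (IrrCharacter G)] {p : ℕ} (hp : p.Prime) {x : G}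
    (hx : x ^ p = 1) (hc : ∀ m : ℕ, m.Coprime (orderOf x) → IsConj x (x ^ m)) :
    (Finset.univ.filter fun χ : IrrCharacter G => ¬ p ∣ charDegree (χ : G → ℂ)).card ≤
      Nat.card (Subgroup.centralizer ({x} : Set G)) := by
  have h1 := Cfsg.Agent.H686.CharKit.sum_normSq (G := G) x
  have h2 : ∀ χ : IrrCharacter G, ¬ p ∣ charDegree (χ : G → ℂ) → 1 ≤ Complex.normSq ((χ : G → ℂ) x) := by
    intro χ hχ
    obtain ⟨a, ha⟩ := Cfsg.Agent.J3Type.CharTools.int_of_conj (isIrr_isCharacter χ.2) x hc
    have h3 := Cfsg.Agent.J3Type.CharTools.int_congr (isIrr_isCharacter χ.2) x hp (b := (charDegree (χ : G → ℂ) : ℤ)) ha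
      (by rw [hx, Int.cast_natCast, Cfsg.Agent.H686.CharKit.charDegree_irr])
    have h4 : a ≠ 0 := by
      rintro rfl
      rw [zero_sub, dvd_neg] at h3
      exact hχ (by exact_mod_cast h3)
    rw [ha, Complex.normSq_intCast]
    have h5 : 1 ≤ a * a := by
      rcases lt_or_gt_of_ne h4 with h | h <;> nlinarith
    exact_mod_cast h5
  have h3 : ((Finset.univ.filter fun χ : IrrCharacter G => ¬ p ∣ charDegree (χ : G → ℂ)).card : ℝ) ≤
      ∑ χ : IrrCharacter G, Complex.normSq ((χ : G → ℂ) x) := by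
    rw [Finset.card_eq_sum_ones, Nat.cast_sum]
    refine (Finset.sum_le_sum (g := fun χ : IrrCharacter G => Complex.normSq ((χ : G → ℂ) x)) fun χ hχ => ?_).trans
      (Finset.sum_le_sum_of_subset_of_nonneg (Finset.filter_subset _ _) fun χ _ _ => Complex.normSq_nonneg _)
    rw [Nat.cast_one]
    exact h2 χ (Finset.mem_filter.1 hχ).2
  rw [h1] at h3
  exact_mod_cast h3

open Classical in
/-- Linear characters are trivial on a perfect normal subgroup. -/
theorem card_linear_le {G : Type u} [Group G] [Finite G] [Fintype (IrrCharacter G)] (M : Subgroup G)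
    (hM : M ≤ commutator G) :
    (Finset.univ.filter fun χ : IrrCharacter G => charDegree (χ : G → ℂ) = 1).card ≤ M.index := by
  have h1 : (Finset.univ.filter fun χ : IrrCharacter G => charDegree (χ : G → ℂ) = 1).card ≤ Nat.card (G →* ℂˣ) := by
    have h2 : ∀ χ : IrrCharacter G, charDegree (χ : G → ℂ) = 1 → ∃ f : G →* ℂˣ, (χ : G → ℂ) = fun g => (f g : ℂ) := by
      intro χ hχ
      refine Characters.Linear.exists_hom_of_isIrrCharacter χ.2 ?_
      rw [← Cfsg.Agent.H686.CharKit.charDegree_irr, hχ, Nat.cast_one]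
    choose! f hf using h2
    have : Finite (G →* ℂˣ) := by
      apply Nat.finite_of_card_ne_zero
      rw [Characters.Linear.card_hom_eq_index_commutator]
      exact Subgroup.index_ne_zero_of_finite
    rw [← Finset.card_image_of_injOn (f := f)]
    · rw [← Set.ncard_coe_finset, ← Nat.card_coe_set_eq]
      exact Nat.card_le_card_of_injective _ Subtype.val_injective
    · intro χ hχ ψ hψ he
      rw [Finset.mem_coe, Finset.mem_filter] at hχ hψ
      apply Subtype.ext
      change (χ : G → ℂ) = ψ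
      rw [hf χ hχ.2, hf ψ hψ.2]
      change f χ = f ψ at he
      rw [he]
  rw [Characters.Linear.card_hom_eq_index_commutator] at h1
  exact h1.trans (Nat.le_of_dvd (Nat.pos_of_ne_zero Subgroup.index_ne_zero_of_finite) (Subgroup.index_dvd_of_le hM))

theorem arith_aux {k a x y z : ℕ} (hk : k = 1 ∨ k = 2) (ha : 0 < a) (hak : a ≤ k) (h5 : a + x + y ≤ 10)
    (h : 2520 * k = a + 36 * x + 196 * y + 225 * z) : False := by
  have hy : y ≤ 9 := by omega
  rcases hk with rfl | rfl
  · have : a = 1 := by omega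
    subst this
    interval_cases y <;> omega
  · interval_cases a <;> interval_cases y <;> omega

open Classical in
theorem arith {G : Type u} [Group G] [Finite G] [Fintype (IrrCharacter G)]
    (hcd : ∀ χ : IrrCharacter G, charDegree (χ : G → ℂ) = 1 ∨ charDegree (χ : G → ℂ) = 6 ∨
      charDegree (χ : G → ℂ) = 14 ∨ charDegree (χ : G → ℂ) = 15)
    (h5 : (Finset.univ.filter fun χ : IrrCharacter G => ¬ 5 ∣ charDegree (χ : G → ℂ)).card ≤ 10)
    {k : ℕ} (hk : k = 1 ∨ k = 2) (hG : Nat.card G = 2520 * k)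
    (h1 : (Finset.univ.filter fun χ : IrrCharacter G => charDegree (χ : G → ℂ) = 1).card ≤ k) : False := by
  have hs := Cfsg.Agent.H686.CharKit.sum_deg_sq (G := G)
  have e1 : ∑ χ : IrrCharacter G, charDegree (χ : G → ℂ) ^ 2 =
      (Finset.univ.filter fun χ : IrrCharacter G => charDegree (χ : G → ℂ) = 1).card +
      36 * (Finset.univ.filter fun χ : IrrCharacter G => charDegree (χ : G → ℂ) = 6).card +
      196 * (Finset.univ.filter fun χ : IrrCharacter G => charDegree (χ : G → ℂ) = 14).card +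
      225 * (Finset.univ.filter fun χ : IrrCharacter G => charDegree (χ : G → ℂ) = 15).card := by
    simp only [Finset.card_filter, Finset.mul_sum, ← Finset.sum_add_distrib]
    refine Finset.sum_congr rfl fun χ _ => ?_
    rcases hcd χ with h | h | h | h <;> simp [h]
  have e2 : (Finset.univ.filter fun χ : IrrCharacter G => ¬ 5 ∣ charDegree (χ : G → ℂ)).card =
      (Finset.univ.filter fun χ : IrrCharacter G => charDegree (χ : G → ℂ) = 1).card +
      (Finset.univ.filter fun χ : IrrCharacter G => charDegree (χ : G → ℂ) = 6).card +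
      (Finset.univ.filter fun χ : IrrCharacter G => charDegree (χ : G → ℂ) = 14).card := by
    simp only [Finset.card_filter, ← Finset.sum_add_distrib]
    refine Finset.sum_congr rfl fun χ _ => ?_
    rcases hcd χ with h | h | h | h <;> simp [h]
  have e3 : 0 < (Finset.univ.filter fun χ : IrrCharacter G => charDegree (χ : G → ℂ) = 1).card := by
    refine Finset.card_pos.2 ⟨⟨1, isIrr_one⟩, ?_⟩
    rw [Finset.mem_filter]
    refine ⟨Finset.mem_univ _, ?_⟩
    rw [Cfsg.Agent.H686.CharKit.charDegree_eq_one_iff]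
    rfl
  rw [hs, hG] at e1
  rw [e2] at h5
  exact arith_aux hk e3 h1 h5 e1

/-- a 5-cycle -/
def σ5 : Perm (Fin 7) := [(0 : Fin 7), 1, 2, 3, 4].formPerm

/-- an even permutation squaring the 5-cycle -/
def τ5 : Perm (Fin 7) := [(1 : Fin 7), 2, 4, 3].formPerm * swap 5 6

theorem σ5_mem : σ5 ∈ alternatingGroup (Fin 7) := by
  rw [Perm.mem_alternatingGroup]
  decide

theorem τ5_mem : τ5 ∈ alternatingGroup (Fin 7) := by
  rw [Perm.mem_alternatingGroup]
  decide

theorem σ5_pow : σ5 ^ 5 = 1 := by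
  apply Equiv.ext
  intro i
  revert i
  decide

theorem τ5_conj : τ5 * σ5 * τ5⁻¹ = σ5 ^ 2 := by
  apply Equiv.ext
  intro i
  revert i
  decide

theorem σ5_ne : σ5 ≠ 1 := by
  intro h
  have := DFunLike.congr_fun h (0 : Fin 7)
  revert this
  decide

theorem card_centralizer_σ5 : Nat.card (Subgroup.centralizer ({σ5} : Set (Perm (Fin 7)))) = 10 := by
  have h1 : σ5.cycleType = {5} := by
    have h2 : σ5.IsCycle := List.isCycle_formPerm (by decide) (by decide)
    rw [h2.cycleType]
    congr 1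
  rw [Equiv.Perm.nat_card_centralizer, h1]
  simp

theorem five_seven {G : Type u} [Group G] [Finite G] (M : Subgroup G) [hM : M.Normal]
    (hc : Subgroup.centralizer (M : Set G) = ⊥) (e : M ≃* alternatingGroup (Fin 7)) : 5 ≤ (charDegrees G).ncard := by
  classical
  have := finite_irr (G := G)
  have := Fintype.ofFinite (IrrCharacter G)
  obtain ⟨φ, hφ⟩ := Cfsg.Agent.H464.AltExt.exists_act M le_rfl e
  have hr : alternatingGroup (Fin 7) ≤ φ.range := by
    intro g hg
    refine ⟨e.symm ⟨g, hg⟩, ?_⟩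
    rw [hφ, MulEquiv.apply_symm_apply]
  -- the action is faithful
  have hinj : Function.Injective φ := by
    rw [← MonoidHom.ker_eq_bot_iff, eq_bot_iff, ← hc]
    intro k hk
    rw [Subgroup.mem_centralizer_iff]
    intro m hm
    have h1 : m * k * m⁻¹ * k⁻¹ ∈ M := by
      have : m * (k * m⁻¹ * k⁻¹) ∈ M := mul_mem hm (hM.conj_mem _ (inv_mem hm) _)
      simpa [mul_assoc] using this
    have h2 : φ (m * k * m⁻¹ * k⁻¹) = 1 := by
      rw [map_mul, map_mul, map_mul, map_inv, map_inv, MonoidHom.mem_ker.1 hk]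
      group
    have h3 : e ⟨_, h1⟩ = 1 := Subtype.ext (by
      have h4 := hφ ⟨_, h1⟩
      rw [← h4]
      exact h2)
    have h4 : (⟨_, h1⟩ : M) = 1 := e.injective (by rw [h3, map_one])
    have h5 : m * k * m⁻¹ * k⁻¹ = 1 := congrArg Subtype.val h4
    rw [mul_inv_eq_one, mul_inv_eq_iff_eq_mul] at h5
    exact h5
  have hcardM : Nat.card M = 2520 := by
    rw [Nat.card_congr e.toEquiv, nat_card_alternatingGroup, Nat.card_eq_fintype_card, Fintype.card_fin]
    rfl
  have hG : Nat.card G = 2520 * M.index := by rw [← hcardM, Subgroup.card_mul_index]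
  have hle : Nat.card G ≤ 5040 := by
    have := Nat.card_le_card_of_injective φ hinj
    rw [Nat.card_perm, Nat.card_eq_fintype_card (α := Fin 7), Fintype.card_fin] at this
    exact this
  have hidx : M.index = 1 ∨ M.index = 2 := by
    have : 0 < M.index := Nat.pos_of_ne_zero Subgroup.index_ne_zero_of_finite
    omega
  have hMc : M ≤ commutator G := by
    have h1 : commutator (alternatingGroup (Fin 7)) = ⊤ :=
      commutator_alternatingGroup_eq_top (by simp)
    have h2 : commutator M = ⊤ := by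
      rw [eq_top_iff, ← Subgroup.map_top_of_surjective e.symm.toMonoidHom e.symm.surjective, ← h1]
      rw [commutator_def, Subgroup.map_commutator]
      exact Subgroup.commutator_mono le_top le_top
    intro m hm
    have h3 : (⟨m, hm⟩ : M) ∈ commutator M := by rw [h2]; trivial
    have h4 : (commutator M).map M.subtype ≤ commutator G := by
      rw [commutator_def, Subgroup.map_commutator]
      exact Subgroup.commutator_mono le_top le_top
    exact h4 ⟨⟨m, hm⟩, h3, rfl⟩
  by_contra hlt
  have hD : charDegrees G = {1, 6, 14, 15} := by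
    have h1 : ({1, 6, 14, 15} : Set ℕ) ⊆ charDegrees G := by
      intro d hd
      simp only [Set.mem_insert_iff, Set.mem_singleton_iff] at hd
      rcases hd with rfl | rfl | rfl | rfl
      · exact one_mem
      · exact mem_one φ hr le_rfl
      · exact mem_two φ hr le_rfl
      · exact mem_three φ hr le_rfl
    have h2 : ({1, 6, 14, 15} : Set ℕ).ncard = 4 := by
      rw [show ({1, 6, 14, 15} : Set ℕ) = (({1, 6, 14, 15} : Finset ℕ) : Set ℕ) by simp, Set.ncard_coe_finset]
      rfl
    refine (Set.eq_of_subset_of_ncard_le h1 ?_ (finite_charDegrees G)).symm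
    rw [h2]
    omega
  have hcd : ∀ χ : IrrCharacter G, charDegree (χ : G → ℂ) = 1 ∨ charDegree (χ : G → ℂ) = 6 ∨
      charDegree (χ : G → ℂ) = 14 ∨ charDegree (χ : G → ℂ) = 15 := by
    intro χ
    have h1 : charDegree (χ : G → ℂ) ∈ charDegrees G := ⟨χ, rfl⟩
    rw [hD] at h1
    simpa using h1
  obtain ⟨x, hx⟩ := hr σ5_mem
  obtain ⟨t, ht⟩ := hr τ5_mem
  have hx5 : x ^ 5 = 1 := hinj (by rw [map_pow, hx, σ5_pow, map_one])
  have hxt : t * x * t⁻¹ = x ^ 2 := hinj (by rw [map_mul, map_mul, map_inv, map_pow, hx, ht, τ5_conj])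
  have ho : orderOf x = 5 := by
    have := Fact.mk (show Nat.Prime 5 by norm_num)
    refine orderOf_eq_prime hx5 ?_
    rintro rfl
    exact σ5_ne (by rw [← hx, map_one])
  have h2 : IsConj x (x ^ 2) := isConj_iff.2 ⟨t, hxt⟩
  have h4 : IsConj x (x ^ 4) := by
    refine isConj_iff.2 ⟨t ^ 2, ?_⟩
    have : t ^ 2 * x * (t ^ 2)⁻¹ = t * (t * x * t⁻¹) * t⁻¹ := by simp only [pow_succ, pow_zero]; group
    rw [this, hxt, ← conj_pow, hxt, ← pow_mul]
  have h3 : IsConj x (x ^ 3) := by
    refine isConj_iff.2 ⟨t ^ 3, ?_⟩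
    have : t ^ 3 * x * (t ^ 3)⁻¹ = t * (t * (t * x * t⁻¹) * t⁻¹) * t⁻¹ := by simp only [pow_succ, pow_zero]; group
    rw [this, hxt, ← conj_pow, hxt, ← pow_mul, ← conj_pow, hxt, ← pow_mul]
    change x ^ 8 = x ^ 3
    rw [show x ^ 8 = x ^ 5 * x ^ 3 by rw [← pow_add], hx5, one_mul]
  have hconj : ∀ m : ℕ, m.Coprime (orderOf x) → IsConj x (x ^ m) := by
    intro m hm
    rw [ho] at hm
    have h6 : x ^ m = x ^ (m % 5) := by rw [← ho, pow_mod_orderOf]
    have h7 : m % 5 ≠ 0 := by
      intro h0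
      have := Nat.dvd_of_mod_eq_zero h0
      have := Nat.Coprime.eq_one_of_dvd hm.symm this
      omega
    have h8 : m % 5 < 5 := Nat.mod_lt _ (by norm_num)
    rw [h6]
    interval_cases m % 5
    · exact absurd rfl h7
    · rw [pow_one]
    · exact h2
    · exact h3
    · exact h4
  have h5 := card_le (G := G) (p := 5) (by norm_num) hx5 hconj
  have h10 : Nat.card (Subgroup.centralizer ({x} : Set G)) ≤ 10 := by
    rw [← card_centralizer_σ5]
    have hmem : ∀ y : Subgroup.centralizer ({x} : Set G), φ y ∈ Subgroup.centralizer ({σ5} : Set (Perm (Fin 7))) := by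
      intro y
      have hy := Subgroup.mem_centralizer_singleton_iff.1 y.2
      rw [Subgroup.mem_centralizer_singleton_iff, ← hx, ← map_mul, ← map_mul, hy]
    exact Nat.card_le_card_of_injective (fun y => (⟨φ y, hmem y⟩ : Subgroup.centralizer ({σ5} : Set (Perm (Fin 7)))))
      fun y z h => Subtype.ext (hinj (congrArg Subtype.val h))
  exact arith hcd (h5.trans h10) hidx hG (card_linear_le M hMc)

/-- **Task 542.** -/
theorem five_alt {G : Type u} [Group G] [Finite G] (M : Subgroup G) (hM : M.Normal)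
    (hc : Subgroup.centralizer (M : Set G) = ⊥) (n : ℕ) (hn : 7 ≤ n)
    (h : Nonempty (M ≃* alternatingGroup (Fin n))) : 5 ≤ (Cfsg.charDegrees G).ncard := by
  obtain ⟨e⟩ := h
  rcases Nat.lt_or_ge n 8 with h8 | h8
  · obtain rfl : n = 7 := by omega
    exact five_seven M hc e
  · obtain ⟨φ, hφ⟩ := Cfsg.Agent.H464.AltExt.exists_act M hn e
    refine five_ge h8 φ fun g hg => ⟨e.symm ⟨g, hg⟩, ?_⟩
    rw [hφ, MulEquiv.apply_symm_apply]

end Cfsg.Agent.H279.FiveAlt
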