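import Cfsg.Agent.H687.Theta
import Cfsg.Agent.Nodes.RGDTypeA
import Cfsg.Agent.H139.Bruhat
import Cfsg.Agent.ClassicalGeometry.AutPSL.SylowU

/-!
# S4834, the row `PSL_n(q)`, `n ≠ 4` (helper279, task 366 of helper687)

* `good_psl` : `Good p PSL_n(F)` for a finite field of characteristic `p > 3`, `3 ≤ n`, `n ≠ 4`.

The long root group is `zz t`, the image of `1 + t E_{0,n-1}`; the double coset representatives are the
images of the monomial matrices (Bruhat); the witnesses are diagonal matrices.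
-/

set_option autoImplicit false

namespace Cfsg.Agent.H279.GoodPSL

open Matrix Cfsg.Agent.H687
open Cfsg.Agent.Nodes.RGDTypeA (Mono mem_T mono_nn nn nn_eq tv_inj tv_val diag_mem_T)
open Cfsg.Agent.TitsThree.KSideA

variable {m : ℕ} {F : Type*} [Field F]

local notation "SLm" => SpecialLinearGroup (Fin (m + 1)) F
local notation "PSLm" => ProjectiveSpecialLinearGroup (Fin (m + 1)) F

/-- the projection -/
def mk : SLm →* PSLm := QuotientGroup.mk' _

theorem mk_surjective : Function.Surjective (mk : SLm →* PSLm) := QuotientGroup.mk'_surjective _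

theorem X_eq (a b : Fin (m + 1)) (t : F) : X a b t = mk (tv a b t) := rfl

/-- the highest root group -/
noncomputable def zz (t : F) : PSLm := X 0 (Fin.last m) t

theorem last_ne (hm : 2 ≤ m) : (0 : Fin (m + 1)) ≠ Fin.last m := by
  intro h
  have := congrArg Fin.val h
  simp at this
  omega

theorem conj_X {σ : Equiv.Perm (Fin (m + 1))} {g : SLm} (hg : Mono σ g) {a b : Fin (m + 1)} (hab : a ≠ b) (t : F) :
    mk g * X a b t * (mk g)⁻¹ = X (σ a) (σ b) (g.1 (σ a) a * (g.1 (σ b) b)⁻¹ * t) := by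
  rw [X_eq, ← map_inv, ← map_mul, ← map_mul, hg.conj_tv hab, X_eq]
  congr 2
  ring

/-- Conjugation by diagonal elements. -/
theorem conj_diag {g : SLm} (hg : Mono 1 g) {a b : Fin (m + 1)} (hab : a ≠ b) (t : F) :
    mk g * X a b t * (mk g)⁻¹ = X a b (g.1 a a * (g.1 b b)⁻¹ * t) := conj_X hg hab t

theorem upper_zz (hm : 2 ≤ m) {g : SLm} (hg : g ∈ upperSL m F) : Nrm zz (mk g) := by
  intro t
  have hl := last_ne hm
  have hd : g.1 (Fin.last m) (Fin.last m) ≠ 0 := by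
    intro h0
    have h1 : g.1.det = 0 := by
      apply Matrix.det_eq_zero_of_row_eq_zero (Fin.last m)
      intro j
      by_cases hj : j = Fin.last m
      · rw [hj, h0]
      · exact (mem_upperSL.1 hg) _ _ (lt_of_le_of_ne (Fin.le_last j) hj)
    rw [g.2] at h1
    exact one_ne_zero h1
  refine ⟨g.1 0 0 * t * (g.1 (Fin.last m) (Fin.last m))⁻¹, ?_⟩
  rw [mul_inv_eq_iff_eq_mul]
  change mk g * mk (tv _ _ _) = mk (tv _ _ _) * mk g
  rw [← map_mul, ← map_mul]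
  congr 1
  apply Subtype.ext
  change g.1 * (tv 0 (Fin.last m) t).1 = (tv 0 (Fin.last m) _).1 * g.1
  rw [tv_val hl, tv_val hl, mul_add, add_mul, mul_one, one_mul]
  congr 1
  ext i j
  by_cases hj : j = Fin.last m
  · subst hj
    rw [Matrix.mul_single_apply_same]
    by_cases hi : i = 0
    · subst hi
      rw [Matrix.single_mul_apply_same]
      field_simp
    · rw [Matrix.single_mul_apply_of_ne _ _ _ _ _ hi, (mem_upperSL.1 hg) i 0 (Fin.pos_iff_ne_zero.2 hi), zero_mul]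
  · rw [Matrix.mul_single_apply_of_ne _ _ _ _ _ hj]
    by_cases hi : i = 0
    · subst hi
      rw [Matrix.single_mul_apply_same, (mem_upperSL.1 hg) _ j (lt_of_le_of_ne (Fin.le_last j) hj), mul_zero]
    · rw [Matrix.single_mul_apply_of_ne _ _ _ _ _ hi]

/-- The double coset representatives. -/
def NN (m : ℕ) (F : Type*) [Field F] : Set (ProjectiveSpecialLinearGroup (Fin (m + 1)) F) :=
  {y | ∃ i j : Fin (m + 1), i ≠ j ∧ ∃ c : F, c ≠ 0 ∧ ∀ t, y * zz t * y⁻¹ = X i j (c * t)}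

theorem mono_mem_NN (hm : 2 ≤ m) {σ : Equiv.Perm (Fin (m + 1))} {g : SLm} (hg : Mono σ g) : mk g ∈ NN m F := by
  refine ⟨σ 0, σ (Fin.last m), fun h => last_ne hm (σ.injective h), _, ?_, fun t => conj_X hg (last_ne hm) t⟩
  exact mul_ne_zero (hg.apply_ne_zero _) (inv_ne_zero (hg.apply_ne_zero _))

/-- diagonal matrix `diag(c, 1, …, 1)` -/
def dg (m : ℕ) {F : Type*} [Field F] (c : F) : Matrix (Fin (m + 1)) (Fin (m + 1)) F :=
  Matrix.diagonal (Function.update 1 0 c)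

theorem det_dg (c : F) : (dg m c).det = c := by
  rw [dg, Matrix.det_diagonal, Finset.prod_update_of_mem (Finset.mem_univ _)]
  simp

open Cfsg.Agent.H139.Bruhat in
theorem exists_mono (g : SLm) : ∃ a ∈ upperSL m F, ∃ b ∈ upperSL m F, ∃ σ, Mono σ (a * g * b) := by
  obtain ⟨u, hu, σ, v, hv, e⟩ := Cfsg.Agent.H139.Bruhat.bruhat (SpecialLinearGroup.toGL g)
  have hdg : ∀ c : F, (dg m c).BlockTriangular id := fun c => Matrix.blockTriangular_diagonal _
  have hu' : ((u⁻¹ : GL (Fin (m + 1)) F) : Matrix (Fin (m + 1)) (Fin (m + 1)) F).BlockTriangular id :=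
    inv_mem hu
  have hv' : ((v⁻¹ : GL (Fin (m + 1)) F) : Matrix (Fin (m + 1)) (Fin (m + 1)) F).BlockTriangular id :=
    inv_mem hv
  let a : SLm := ⟨dg m (u : Matrix (Fin (m + 1)) (Fin (m + 1)) F).det * ((u⁻¹ : GL (Fin (m + 1)) F) : Matrix _ _ F), by
    rw [Matrix.det_mul, det_dg, ← Matrix.det_mul, ← Units.val_mul, mul_inv_cancel, Units.val_one, Matrix.det_one]⟩
  let b : SLm := ⟨((v⁻¹ : GL (Fin (m + 1)) F) : Matrix _ _ F) * dg m (v : Matrix (Fin (m + 1)) (Fin (m + 1)) F).det, by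
    rw [Matrix.det_mul, det_dg, ← Matrix.det_mul, ← Units.val_mul, inv_mul_cancel, Units.val_one, Matrix.det_one]⟩
  refine ⟨a, (hdg _).mul hu', b, hv'.mul (hdg _), σ, ?_⟩
  intro i j hij
  have h1 : (a * g * b).1 = dg m (u : Matrix (Fin (m + 1)) (Fin (m + 1)) F).det *
      ((permGL F (m + 1) σ : GL (Fin (m + 1)) F) : Matrix _ _ F) * dg m (v : Matrix (Fin (m + 1)) (Fin (m + 1)) F).det := by
    have h2 : (permGL F (m + 1) σ : GL (Fin (m + 1)) F) = u⁻¹ * SpecialLinearGroup.toGL g * v⁻¹ := by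
      rw [e]
      group
    rw [h2]
    change (dg m _ * _) * g.1 * (_ * dg m _) = _
    rw [Units.val_mul, Units.val_mul]
    simp only [mul_assoc]
    rfl
  rw [h1, dg, dg, Matrix.mul_diagonal, Matrix.diagonal_mul] at hij
  have h2 := right_ne_zero_of_mul (left_ne_zero_of_mul hij)
  rw [coe_permGL] at h2
  by_contra h3
  apply h2
  rw [Equiv.Perm.permMatrix, PEquiv.toMatrix_apply, if_neg]
  intro h4
  apply h3
  have h5 : σ⁻¹ i = j := by simpa using h4
  rw [← h5]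
  simp

theorem hN (hm : 2 ≤ m) (y : PSLm) : ∃ a b : PSLm, Nrm zz a ∧ Nrm zz b ∧ a * y * b ∈ NN m F := by
  obtain ⟨g, rfl⟩ := mk_surjective y
  obtain ⟨a, ha, b, hb, σ, h⟩ := exists_mono g
  refine ⟨mk a, mk b, upper_zz hm ha, upper_zz hm hb, ?_⟩
  rw [← map_mul, ← map_mul]
  exact mono_mem_NN hm h

/-! ### the witnesses -/

theorem diag2n_apply {a b : Fin (m + 1)} (h : a ≠ b) {t : F} (ht : t ≠ 0) (c : Fin (m + 1)) :
    (SpecialLinearGroup.diag2n h t ht).1 c c = if c = a then t else if c = b then t⁻¹ else 1 := by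
  rw [SpecialLinearGroup.diag2n_coe, Matrix.diagonal_apply_eq]

/-- A pair `(e, f)` of exponents for the roots `(0, last)` and `(i, j)`. -/
def Ex (F : Type*) [Field F] (i j : Fin (m + 1)) (e f : ℤ) : Prop :=
  ∀ d : Fˣ, ∃ τ : SpecialLinearGroup (Fin (m + 1)) F, Mono 1 τ ∧ τ.1 0 0 * (τ.1 (Fin.last m) (Fin.last m))⁻¹ = ((d ^ e : Fˣ) : F) ∧
    τ.1 i i * (τ.1 j j)⁻¹ = ((d ^ f : Fˣ) : F)

theorem Ex.wit (hm : 2 ≤ m) {i j : Fin (m + 1)} (hij : i ≠ j) {e f : ℤ} (h : Ex F i j e f) {y : PSLm}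
    {c : F} (hy : ∀ t, y * zz t * y⁻¹ = X i j (c * t)) : Wit zz y e f := by
  intro d
  obtain ⟨τ, h1, h2, h3⟩ := h d
  refine ⟨mk τ, fun t => ?_, fun t => ?_⟩
  · rw [← h2]
    exact conj_diag h1 (last_ne hm) t
  · have e1 : y⁻¹ * mk τ * y * zz t * (y⁻¹ * mk τ * y)⁻¹ = y⁻¹ * (mk τ * (y * zz t * y⁻¹) * (mk τ)⁻¹) * y := by group
    rw [e1, hy, conj_diag h1 hij, h3]
    have e2 : ((d ^ f : Fˣ) : F) * (c * t) = c * (((d ^ f : Fˣ) : F) * t) := by ring
    rw [e2, ← hy]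
    group

theorem ex_of {i j a b : Fin (m + 1)} (hab : a ≠ b) (e f : ℤ)
    (h1 : ∀ d : Fˣ, (if (0 : Fin (m + 1)) = a then (d : F) else if (0 : Fin (m + 1)) = b then (d : F)⁻¹ else 1) *
      (if Fin.last m = a then (d : F) else if Fin.last m = b then (d : F)⁻¹ else 1)⁻¹ = ((d ^ e : Fˣ) : F))
    (h2 : ∀ d : Fˣ, (if i = a then (d : F) else if i = b then (d : F)⁻¹ else 1) *
      (if j = a then (d : F) else if j = b then (d : F)⁻¹ else 1)⁻¹ = ((d ^ f : Fˣ) : F)) : Ex F i j e f := by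
  intro d
  refine ⟨SpecialLinearGroup.diag2n hab (d : F) d.ne_zero, mem_T.1 (diag_mem_T hab d.ne_zero), ?_, ?_⟩
  · rw [diag2n_apply, diag2n_apply, h1]
  · rw [diag2n_apply, diag2n_apply, h2]

theorem exists_ne (s : Finset (Fin (m + 1))) (h : s.card < m + 1) : ∃ k, k ∉ s := by
  by_contra hcon
  push Not at hcon
  have h1 : s = Finset.univ := Finset.eq_univ_iff_forall.2 hcon
  rw [h1, Finset.card_univ, Fintype.card_fin] at h
  exact lt_irrefl _ h

theorem ex_same (hm : 2 ≤ m) : Ex F (0 : Fin (m + 1)) (Fin.last m) 1 1 := by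
  obtain ⟨k, hk⟩ := exists_ne {(0 : Fin (m + 1)), Fin.last m} (lt_of_le_of_lt Finset.card_le_two (by omega))
  simp only [Finset.mem_insert, Finset.mem_singleton, not_or] at hk
  have hl := last_ne hm
  refine ex_of (Ne.symm hk.1) 1 1 (fun d => ?_) (fun d => ?_) <;>
    simp [hl.symm, Ne.symm hk.1, Ne.symm hk.2]

theorem ex_opp (hm : 2 ≤ m) : Ex F (Fin.last m) (0 : Fin (m + 1)) 1 (-1) := by
  obtain ⟨k, hk⟩ := exists_ne {(0 : Fin (m + 1)), Fin.last m} (lt_of_le_of_lt Finset.card_le_two (by omega))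
  simp only [Finset.mem_insert, Finset.mem_singleton, not_or] at hk
  have hl := last_ne hm
  refine ex_of (Ne.symm hk.1) 1 (-1) (fun d => ?_) (fun d => ?_) <;>
    simp [hl.symm, Ne.symm hk.1, Ne.symm hk.2]

theorem ex_other (hm : 2 ≤ m) (hm3 : m ≠ 3) {i j : Fin (m + 1)} (hij : i ≠ j)
    (h1 : ¬ (i = 0 ∧ j = Fin.last m)) (h2 : ¬ (i = Fin.last m ∧ j = 0)) :
    ∃ e f : ℤ, Ex F i j e f ∧ Odd (e - f) := by
  have hl := last_ne hm
  by_cases hi : i = 0
  · subst hi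
    have hj : j ≠ Fin.last m := fun h => h1 ⟨rfl, h⟩
    refine ⟨2, 1, ex_of hl 2 1 (fun d => ?_) (fun d => ?_), by decide⟩ <;>
      simp [hl.symm, hij.symm, hj, ← pow_two]
  · by_cases hi' : i = Fin.last m
    · subst hi'
      have hj : j ≠ 0 := fun h => h2 ⟨rfl, h⟩
      refine ⟨2, -1, ex_of hl 2 (-1) (fun d => ?_) (fun d => ?_), by decide⟩ <;>
        simp [hl.symm, hij.symm, hj, ← pow_two]
    · by_cases hj : j = 0
      · subst hj
        refine ⟨2, -1, ex_of hl 2 (-1) (fun d => ?_) (fun d => ?_), by decide⟩ <;>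
          simp [hl.symm, hi, hi', ← pow_two]
      · by_cases hj' : j = Fin.last m
        · subst hj'
          refine ⟨2, 1, ex_of hl 2 1 (fun d => ?_) (fun d => ?_), by decide⟩ <;>
            simp [hl.symm, hi, hi', ← pow_two]
        · have h4 : 4 ≤ m := by
            have h5 : ({0, Fin.last m, i, j} : Finset (Fin (m + 1))).card = 4 := by
              rw [Finset.card_insert_of_notMem, Finset.card_insert_of_notMem, Finset.card_pair hij]
              · simp [Ne.symm hi', Ne.symm hj']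
              · simp [hl, Ne.symm hi, Ne.symm hj]
            have h6 := Finset.card_le_univ ({0, Fin.last m, i, j} : Finset (Fin (m + 1)))
            rw [h5, Fintype.card_fin] at h6
            omega
          obtain ⟨k, hk⟩ := exists_ne {(0 : Fin (m + 1)), Fin.last m, i, j}
            (lt_of_le_of_lt Finset.card_le_four (by omega))
          simp only [Finset.mem_insert, Finset.mem_singleton, not_or] at hk
          refine ⟨1, 0, ex_of (Ne.symm hk.1) 1 0 (fun d => ?_) (fun d => ?_), by decide⟩ <;>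
            simp [hl, hl.symm, Ne.symm hk.1, Ne.symm hk.2.1, Ne.symm hk.2.2.1, Ne.symm hk.2.2.2, hi, hj]

/-! ### the element `x₀` -/

/-- the representative of the reflection in the highest root -/
noncomputable def x₀ (m : ℕ) (F : Type*) [Field F] : ProjectiveSpecialLinearGroup (Fin (m + 1)) F :=
  mk (nn 0 (Fin.last m) 1)

theorem x₀_conj (hm : 2 ≤ m) : ∃ c : F, c ≠ 0 ∧ ∀ t, x₀ m F * zz t * (x₀ m F)⁻¹ = X (Fin.last m) 0 (c * t) := by
  have hl := last_ne hm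
  have h1 : Mono (Equiv.swap 0 (Fin.last m)) (nn 0 (Fin.last m) (1 : F)) := mono_nn hl one_ne_zero
  have h2 := fun t => conj_X h1 hl t
  simp only [Equiv.swap_apply_left, Equiv.swap_apply_right] at h2
  have h3 := h1.apply_ne_zero 0
  have h4 := h1.apply_ne_zero (Fin.last m)
  rw [Equiv.swap_apply_left] at h3
  rw [Equiv.swap_apply_right] at h4
  exact ⟨_, mul_ne_zero h3 (inv_ne_zero h4), h2⟩

theorem x₀_sq (hm : 2 ≤ m) : Nrm zz (x₀ m F * x₀ m F) := by
  have hl := last_ne hm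
  have h1 : Mono (Equiv.swap 0 (Fin.last m)) (nn 0 (Fin.last m) (1 : F)) := mono_nn hl one_ne_zero
  have h2 := h1.mul h1
  rw [Equiv.swap_mul_self] at h2
  intro t
  have h3 := conj_diag h2 hl t
  rw [map_mul] at h3
  exact ⟨_, h3⟩

theorem borel_of_nrm (hm : 2 ≤ m) {a : F} (h : Nrm zz (X (Fin.last m) 0 a)) : a = 0 := by
  obtain ⟨b, hb⟩ := h 1
  have hl := last_ne hm
  have hlt : (0 : Fin (m + 1)) < Fin.last m := Fin.pos_iff_ne_zero.2 hl.symm
  have h1 : X (Fin.last m) 0 a * zz 1 * (X (Fin.last m) 0 a)⁻¹ ∈ borel m F := by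
    rw [hb]
    exact X_mem_borel hlt b
  rw [← X_neg] at h1
  have h2 : tv (Fin.last m) 0 a * tv 0 (Fin.last m) 1 * tv (Fin.last m) 0 (-a) ∈ upperSL m F := mk_mem_borel.1 h1
  have h3 : ((tv (Fin.last m) 0 a).1 * (tv 0 (Fin.last m) (1 : F)).1 * (tv (Fin.last m) 0 (-a)).1)
      (Fin.last m) 0 = 0 := (mem_upperSL.1 h2) (Fin.last m) 0 hlt
  rw [tv_val hl, tv_val hl.symm, tv_val hl.symm] at h3
  simp [add_mul, mul_add, Matrix.add_apply,
    Matrix.single_apply, hl, hl.symm] at h3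
  exact h3

theorem x₀_three (hm : 2 ≤ m) {a : F} (ha : a ≠ 0) :
    ∃ b, Nrm zz ((x₀ m F)⁻¹ * zz b * x₀ m F * zz a * (x₀ m F)⁻¹) := by
  have hl := last_ne hm
  obtain ⟨c, hc, h⟩ := x₀_conj (F := F) hm
  have h1 : ∀ t, ∃ b, (x₀ m F)⁻¹ * zz b * x₀ m F = X (Fin.last m) 0 t := by
    intro t
    obtain ⟨s, hs⟩ := x₀_sq (F := F) hm (c⁻¹ * t)
    refine ⟨s, ?_⟩
    rw [← hs]
    have e1 : (x₀ m F)⁻¹ * (x₀ m F * x₀ m F * zz (c⁻¹ * t) * (x₀ m F * x₀ m F)⁻¹) * x₀ m F =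
        x₀ m F * zz (c⁻¹ * t) * (x₀ m F)⁻¹ := by group
    rw [e1, h, mul_inv_cancel_left₀ hc]
  obtain ⟨b, hb⟩ := h1 (-a⁻¹)
  refine ⟨b, ?_⟩
  rw [hb]
  have h2 : tv (Fin.last m) 0 (-a⁻¹) * tv 0 (Fin.last m) a * (nn 0 (Fin.last m) 1)⁻¹ =
      tv 0 (Fin.last m) (-a) * SpecialLinearGroup.diag2n hl a ha := by
    have h3 := nn_eq hl ha
    rw [nn] at h3
    rw [tv_neg 0, ← mul_right_inj (tv 0 (Fin.last m) a), mul_inv_cancel_left, ← mul_assoc, ← mul_assoc, h3]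
    group
  have h4 : X (Fin.last m) 0 (-a⁻¹) * zz a * (x₀ m F)⁻¹ =
      mk (tv 0 (Fin.last m) (-a) * SpecialLinearGroup.diag2n hl a ha) := by
    rw [← h2, map_mul, map_mul, map_inv]
    rfl
  rw [h4]
  exact upper_zz hm (mul_mem (tv_mem_upperSL (Fin.pos_iff_ne_zero.2 hl.symm) _) (diag2n_mem_upperSL hl a ha))

open Cfsg.Agent.ClassicalGeometry.AutPSL.SylowU Cfsg.Agent.ClassicalGeometry.AutPSL in
/-- **`PSL_n(q)`, `n ≠ 4`.** -/
theorem good_psl_succ {p : ℕ} [Fact p.Prime] (hp : 3 < p) {F : Type*} [Field F] [Finite F] [CharP F p] {m : ℕ}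
    (hm : 2 ≤ m) (hm3 : m ≠ 3) : Good p (ProjectiveSpecialLinearGroup (Fin (m + 1)) F) := by
  have := Fintype.ofFinite F
  have hl := last_ne hm
  have hlt : (0 : Fin (m + 1)) < Fin.last m := Fin.pos_iff_ne_zero.2 hl.symm
  have hs : IsSimpleGroup (ProjectiveSpecialLinearGroup (Fin (m + 1)) F) := isSimpleGroup hm
  have hodd : ∀ k : ℤ, Odd k → ¬ ((p : ℤ) - 1 ∣ k) := by
    intro k hk hd
    have hp2 : Odd p := (Fact.out : p.Prime).odd_of_ne_two (by omega)
    obtain ⟨r, hr⟩ := hp2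
    have h2 : (2 : ℤ) ∣ (p : ℤ) - 1 := ⟨r, by rw [hr]; push_cast; ring⟩
    obtain ⟨s, hs⟩ := hk
    obtain ⟨w, hw⟩ := h2.trans hd
    omega
  have key : ∀ n ∈ NN m F, Nrm zz n ∨ (Nrm zz ((x₀ m F)⁻¹ * n) ∧ ∃ i j : ℤ, Wit zz n i j ∧ i - j = 2) ∨
      ∃ i j : ℤ, Wit zz n i j ∧ Odd (i - j) := by
    rintro n ⟨i, j, hij, c, hc, hn⟩
    by_cases h1 : i = 0 ∧ j = Fin.last m
    · obtain ⟨rfl, rfl⟩ := h1
      exact Or.inl fun t => ⟨_, hn t⟩
    · by_cases h2 : i = Fin.last m ∧ j = 0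
      · obtain ⟨rfl, rfl⟩ := h2
        refine Or.inr (Or.inl ⟨fun t => ?_, 1, -1, (ex_opp hm).wit hm hij hn, by norm_num⟩)
        obtain ⟨c', hc', h'⟩ := x₀_conj (F := F) hm
        refine ⟨c'⁻¹ * (c * t), ?_⟩
        have e1 : (x₀ m F)⁻¹ * n * zz t * ((x₀ m F)⁻¹ * n)⁻¹ = (x₀ m F)⁻¹ * (n * zz t * n⁻¹) * x₀ m F := by group
        rw [e1, hn]
        have e2 := h' (c'⁻¹ * (c * t))
        rw [mul_inv_cancel_left₀ hc'] at e2
        rw [← e2]
        group
      · obtain ⟨e, f, hef, ho⟩ := ex_other (F := F) hm hm3 hij h1 h2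
        exact Or.inr (Or.inr ⟨e, f, hef.wit hm hij hn, ho⟩)
  obtain ⟨k, hk⟩ := exists_ne {(0 : Fin (m + 1)), Fin.last m} (lt_of_le_of_lt Finset.card_le_two (by omega))
  simp only [Finset.mem_insert, Finset.mem_singleton, not_or] at hk
  refine theta_good (z := zz) (fun a b => X_add _ _ a b) (fun a b h => X_injective hl h) hp
    ⟨X 0 k 1, X k (Fin.last m) 1, ?_⟩ ?_ ?_ (NN m F) (hN hm) (x₀ m F) ?_ ?_ ?_ (x₀_sq hm) ?_ ?_
  · intro h
    have h1 := X_comm (Ne.symm hk.1) hk.2 hl (1 : F) 1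
    rw [commutatorElement_eq_one_iff_mul_comm.2 h, mul_one, ← X_zero 0 (Fin.last m)] at h1
    exact zero_ne_one (X_injective hl h1)
  · intro φ
    obtain ⟨h, hh⟩ := exists_conj_transvection p hlt (fun i => Fin.zero_le i) (fun i => Fin.le_last i) φ
    refine ⟨(mk h)⁻¹, fun a => ?_⟩
    obtain ⟨s, hs⟩ := hh a
    refine ⟨s, ?_⟩
    have e1 : φ (zz a) = mk h * zz s * (mk h)⁻¹ := by
      change φ (mk (tv _ _ _)) = mk h * mk (tv _ _ _) * (mk h)⁻¹
      rw [tv_of_ne hl, tv_of_ne hl, ← map_inv, ← map_mul, ← map_mul]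
      exact hs
    rw [e1]
    group
  · obtain ⟨S, hS⟩ := exists_sylow (F := F) (m + 1) p
    refine ⟨S, fun u hu => ?_⟩
    rw [hS] at hu
    obtain ⟨g, hg, rfl⟩ := hu
    apply upper_zz hm
    rw [mem_upperSL]
    intro i j hij
    rw [mem_upper.1 hg i j hij.le, if_neg (ne_of_gt hij)]
  · refine ⟨1, odd_one, (ex_same hm).wit hm hl (c := 1) fun t => ?_⟩
    rw [one_mul, one_mul, inv_one, mul_one]
    rfl
  · intro n hn
    rcases key n hn with h | ⟨h, -⟩ | h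
    · exact Or.inl h
    · exact Or.inr (Or.inl h)
    · exact Or.inr (Or.inr h)
  · intro n hn
    rcases key n hn with h | ⟨-, i, j, h, h2⟩ | ⟨i, j, h, h2⟩
    · exact Or.inl h
    · refine Or.inr ⟨i, j, h, fun hd => ?_⟩
      rw [h2] at hd
      have := Int.le_of_dvd (by norm_num) hd
      omega
    · exact Or.inr ⟨i, j, h, hodd _ h2⟩
  · intro a h
    obtain ⟨c, hc, h'⟩ := x₀_conj (F := F) hm
    rw [h'] at h
    have := borel_of_nrm hm h
    exact (mul_eq_zero.1 this).resolve_left hc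
  · intro a ha
    exact x₀_three hm ha

/-- **`PSL_n(q)`, `3 ≤ n ≠ 4`, `q` a power of `p > 3`.** -/
theorem good_psl {p : ℕ} [Fact p.Prime] (hp : 3 < p) {F : Type*} [Field F] [Finite F] [CharP F p] {n : ℕ}
    (hn : 3 ≤ n) (h4 : n ≠ 4) : Good p (ProjectiveSpecialLinearGroup (Fin n) F) := by
  obtain ⟨m, rfl⟩ : ∃ m, n = m + 1 := ⟨n - 1, by omega⟩
  exact good_psl_succ hp (by omega) (by omega)

end Cfsg.Agent.H279.GoodPSL
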