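import Cfsg.Agent.H387.VO.Main
import Cfsg.Agent.H620.SporCrit
import Cfsg.Agent.H710.VanCount
import Cfsg.Agent.H713.Spor.JJ
import Cfsg.Agent.KFacts.J2.Facts
import Cfsg.Agent.J2Type.ThreeF

/-!
# S4987, the row `J2`, `p = 5` (helper279)

An element of order 10 whose fifth power is 2-central has a centralizer of order 10, an element of order 15 has a
centralizer of order 15, and `J2` has at least 16 classes.
-/

set_option autoImplicit false

namespace Cfsg.Agent.H279.JTwoFive

open Cfsg Subgroup Cfsg.Agent.H713 Cfsg.Agent.H710.VanCount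
open Cfsg.Agent.J2Type Cfsg.Agent.J2Type.Base Cfsg.Agent.J2Type.CentU Cfsg.Agent.J2Type.CentQuot

universe u

section general

variable {G : Type*} [Group G] [Finite G]

theorem card_cent_isConj {x y : G} (h : IsConj x y) :
    Nat.card (centralizer ({x} : Set G)) = Nat.card (centralizer ({y} : Set G)) :=
  Cent5.card_centralizer_of_isConj h

theorem card_cent_aut (α : MulAut G) (x : G) :
    Nat.card (centralizer ({α x} : Set G)) = Nat.card (centralizer ({x} : Set G)) := by
  refine (Nat.card_congr (α.toEquiv.subtypeEquiv fun y => ?_)).symm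
  show y ∈ centralizer ({x} : Set G) ↔ α y ∈ centralizer ({α x} : Set G)
  rw [mem_centralizer_singleton_iff, mem_centralizer_singleton_iff, ← map_mul, ← map_mul]
  exact α.injective.eq_iff.symm

/-- Elements `s w`, `s` of order prime to `p` with `p² ∤ |C(s)|`, `w` of order `p`. -/
theorem conj_pow {p : ℕ} [hp : Fact p.Prime] {s s' w w' : G} (hs : IsConj s s') (hw : orderOf w = p)
    (hw' : orderOf w' = p) (hc : s * w = w * s) (hc' : s' * w' = w' * s') (hsp : (orderOf s).Coprime p)
    (h : ¬ p ^ 2 ∣ Nat.card (centralizer ({s} : Set G))) : ∃ k : ℕ, IsConj ((s * w) ^ k) (s' * w') := by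
  obtain ⟨g, hg⟩ := isConj_iff.1 hs
  set w₂ := g⁻¹ * w' * g with hw₂
  have hw₂o : orderOf w₂ = p := by
    have h1 : w₂ = MulAut.conj g⁻¹ w' := by rw [MulAut.conj_apply, inv_inv, hw₂]
    rw [h1, MulEquiv.orderOf_eq, hw']
  have hc₂ : w₂ * s = s * w₂ := by
    have h1 : g * (w₂ * s) * g⁻¹ = g * (s * w₂) * g⁻¹ := by
      calc g * (w₂ * s) * g⁻¹ = w' * (g * s * g⁻¹) := by rw [hw₂]; group
        _ = (g * s * g⁻¹) * w' := by rw [hg, hc']
        _ = g * (s * w₂) * g⁻¹ := by rw [hw₂]; group
    exact mul_left_cancel (mul_right_cancel h1)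
  let C := centralizer ({s} : Set G)
  let a : C := ⟨w, mem_centralizer_singleton_iff.2 hc.symm⟩
  let b : C := ⟨w₂, mem_centralizer_singleton_iff.2 hc₂⟩
  have ha : orderOf a = p := by rw [← orderOf_coe]; exact hw
  have hb : orderOf b = p := by rw [← orderOf_coe]; exact hw₂o
  have h1 : IsPGroup p (zpowers a) := IsPGroup.of_card (n := 1) (by rw [Nat.card_zpowers, ha, pow_one])
  obtain ⟨P, hP⟩ := h1.exists_le_sylow
  obtain ⟨c, hcb⟩ := SylowFive.exists_conj_mem_sylow P (y := b) (n := 1) (by rw [hb, pow_one])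
  have hPa : (P : Subgroup C) = zpowers a := by
    symm
    apply eq_of_le_of_card_ge hP
    rw [Nat.card_zpowers, ha]
    obtain ⟨n, hn⟩ := IsPGroup.iff_card.1 P.2
    have hn1 : n ≤ 1 := by
      by_contra hcon
      push Not at hcon
      apply h
      exact (pow_dvd_pow p hcon).trans (hn ▸ Subgroup.card_subgroup_dvd_card (P : Subgroup C))
    show Nat.card (P : Subgroup C) ≤ p
    rw [hn]
    calc p ^ n ≤ p ^ 1 := Nat.pow_le_pow_right hp.out.pos hn1
      _ = p := pow_one p
  have hcb' : c * b * c⁻¹ ∈ (P : Subgroup C) := hcb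
  rw [hPa, ← mem_powers_iff_mem_zpowers] at hcb'
  obtain ⟨j, hj⟩ := hcb'
  have hj' : (c : G) * w₂ * (c : G)⁻¹ = w ^ j := (congrArg Subtype.val hj).symm
  have hcs : (c : G) * s = s * c := mem_centralizer_singleton_iff.1 c.2
  -- the Chinese remainder theorem
  obtain ⟨k, hk1, hk2⟩ := Nat.chineseRemainder hsp 1 j
  have hsk : s ^ k = s := by
    have := pow_eq_pow_iff_modEq.2 hk1
    rwa [pow_one] at this
  have hwk : w ^ k = w ^ j := pow_eq_pow_iff_modEq.2 (by rw [hw]; exact hk2)
  refine ⟨k, ?_⟩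
  have h3 : (s * w) ^ k = s * w ^ j := by
    rw [(show Commute s w from hc).mul_pow, hsk, hwk]
  refine isConj_iff.2 ⟨g * (c : G)⁻¹, ?_⟩
  rw [h3, ← hj']
  calc g * (c : G)⁻¹ * (s * ((c : G) * w₂ * (c : G)⁻¹)) * (g * (c : G)⁻¹)⁻¹
      = g * ((c : G)⁻¹ * (s * c)) * w₂ * g⁻¹ := by group
    _ = g * s * w₂ * g⁻¹ := by rw [← hcs]; group
    _ = (g * s * g⁻¹) * w' := by rw [hw₂]; group
    _ = s' * w' := by rw [hg]

/-- Sixteen classes by orders and the orders of centralizers of powers. -/
theorem classes (tst e : ℕ → ℕ) (s t : Finset ℕ) (hs : ∀ n ∈ s, ∃ g : G, orderOf g = n)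
    (ht : ∀ n ∈ t, ∃ g h : G, orderOf g = n ∧ orderOf h = n ∧
      tst n ∣ Nat.card (centralizer ({g ^ e n} : Set G)) ∧
      ¬ tst n ∣ Nat.card (centralizer ({h ^ e n} : Set G))) :
    s.card + t.card ≤ Nat.card (ConjClasses G) := by
  refine le_card_conjClasses_two s t hs fun n hn => ?_
  obtain ⟨g, h, h1, h2, h3, h4⟩ := ht n hn
  refine ⟨g, h, h1, h2, fun hc => h4 ?_⟩
  rwa [← card_cent_isConj (hc.pow (e n))]

end general

variable {G : Type u} [Group G] [Finite G]

theorem main {t u : G} {Q : Subgroup (centralizer ({t} : Set G))} {v : Fin 5 → centralizer ({t} : Set G)}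
    {ρ : centralizer ({t} : Set G) →* Cfsg.Agent.J2Type.Model.SP} (D : KFacts.J2.Basic.Dat t u Q v ρ) :
    H387.VO.TwoVan 5 G := by
  have f5 : Fact (Nat.Prime 5) := ⟨by norm_num⟩
  have f3 : Fact (Nat.Prime 3) := ⟨by norm_num⟩
  have f2 : Fact (Nat.Prime 2) := ⟨by norm_num⟩
  have h := D.F
  have hG : Nat.card G = 604800 := D.card
  obtain ⟨f, U, V, H0, F⟩ := CentU.main h
  have h60 := ThreeA.card_H0 h F
  obtain ⟨d, hd, -, hdH⟩ := ThreeA.exists_d h F
  have hcd : Nat.card (centralizer ({d} : Set G)) = 1080 := ThreeD.card_centralizer_d h F hd hdH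
  obtain ⟨w', hw'⟩ := exists_prime_orderOf_dvd_card' (G := H0) 5 (by rw [h60]; norm_num)
  obtain ⟨w, hwH, hw⟩ : ∃ w ∈ H0, orderOf w = 5 := ⟨w', w'.2, by rw [orderOf_coe]; exact hw'⟩
  obtain ⟨e⟩ := Cent5.exists_equiv_CQ h F h60 hG hwH hw
  have hcw : Nat.card (centralizer ({w} : Set G)) = 300 := Cent5.card_centralizer_five h F h60 hG hwH hw
  have hdw : d * w = w * d := hdH w hwH
  have h15 := ThreeC.card_inf_fifteen e hw hd hdw
  have hcu : Nat.card (centralizer ({u} : Set G)) = 240 := D.card_cent_u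
  have hct : Nat.card (centralizer ({t} : Set G)) = 1920 := D.cardC
  have huw : u * w = w * u := (mem_centralizer_singleton_iff.1 (F.str.le hwH)).symm
  -- the elements of order 3
  obtain ⟨a, b, ha, hb, hca, hcb, hab, -⟩ := ThreeF.main h
  have hda : ∀ d' : G, orderOf d' = 3 → Nat.card (centralizer ({d'} : Set G)) = 1080 → IsConj d d' := by
    have hd1 : IsConj d a := by
      rcases hab d hd with h1 | h1
      · exact h1
      · rw [card_cent_isConj h1, hcb] at hcd
        norm_num at hcd
    intro d' hd' hc'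
    rcases hab d' hd' with h1 | h1
    · exact hd1.trans h1.symm
    · rw [card_cent_isConj h1, hcb] at hc'
      norm_num at hc'
  -- the element of order 10
  obtain ⟨x, hx, hx5, hxle, hx3⟩ := Cfsg.Agent.H713.Spor.JJ.exists_ten rfl D.M
  set w0 := x ^ 6 with hw0
  have hw0o : orderOf w0 = 5 := by rw [hw0, orderOf_pow' _ (by norm_num), hx]; norm_num
  have hx10 : x ^ 10 = 1 := by rw [← hx, pow_orderOf_eq_one]
  have hxtw : x = t * w0 := by
    rw [hw0, ← hx5, ← pow_add, show 5 + 6 = 10 + 1 from rfl, pow_succ, hx10, one_mul]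
  have htw0 : t * w0 = w0 * t := by
    rw [hw0, ← hx5]
    exact ((Commute.refl x).pow_pow 5 6).eq
  have hn4 : ¬ 4 ∣ Nat.card (centralizer ({w0} : Set G)) := FiveFus.not_four_dvd h hw0o htw0.symm
  -- the element of order 15
  set y := d * w with hy
  have hyo : orderOf y = 15 := by
    rw [hy, (show Commute d w from hdw).orderOf_mul_eq_mul_orderOf_of_coprime (by rw [hd, hw]; norm_num), hd, hw]
  have hycard : Nat.card (centralizer ({y} : Set G)) = 15 := by
    have h1 : centralizer ({y} : Set G) =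
        (centralizer ({w} : Set G) ⊓ centralizer ({d} : Set G) : Subgroup G) := by
      ext g
      rw [mem_inf, mem_centralizer_singleton_iff, mem_centralizer_singleton_iff,
        mem_centralizer_singleton_iff]
      constructor
      · intro hg
        have hg' : Commute g y := hg
        have hcm : Commute d w := hdw
        have e1 : y ^ 6 = w := by
          rw [hy, hcm.mul_pow, show d ^ 6 = 1 by
            rw [show 6 = 3 * 2 from rfl, pow_mul, ← hd, pow_orderOf_eq_one, one_pow], one_mul,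
            show 6 = 5 + 1 from rfl, pow_succ, ← hw, pow_orderOf_eq_one, one_mul]
        have e2 : y ^ 10 = d := by
          rw [hy, hcm.mul_pow, show w ^ 10 = 1 by
            rw [show 10 = 5 * 2 from rfl, pow_mul, ← hw, pow_orderOf_eq_one, one_pow], mul_one,
            show 10 = 3 * 3 + 1 from rfl, pow_succ, pow_mul, ← hd, pow_orderOf_eq_one, one_pow, one_mul]
        refine ⟨?_, ?_⟩
        · have := (hg'.pow_right 6).eq
          rwa [e1] at this
        · have := (hg'.pow_right 10).eq
          rwa [e2] at this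
      · rintro ⟨h1, h2⟩
        exact ((show Commute g d from h2).mul_right (show Commute g w from h1)).eq
    rw [h1, h15]
  -- elements of order 6
  obtain ⟨s1, hs1, hs1d⟩ : ∃ s : G, orderOf s = 2 ∧ s * d = d * s := by
    obtain ⟨s, hs⟩ := exists_prime_orderOf_dvd_card' (G := centralizer ({d} : Set G)) 2
      (by rw [hcd]; norm_num)
    exact ⟨s, by rw [orderOf_coe]; exact hs, mem_centralizer_singleton_iff.1 s.2⟩
  obtain ⟨s2, hs2, hs2b⟩ : ∃ s : G, orderOf s = 2 ∧ s * b = b * s := by
    obtain ⟨s, hs⟩ := exists_prime_orderOf_dvd_card' (G := centralizer ({b} : Set G)) 2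
      (by rw [hcb]; norm_num)
    exact ⟨s, by rw [orderOf_coe]; exact hs, mem_centralizer_singleton_iff.1 s.2⟩
  have six : ∀ {s c : G}, orderOf s = 2 → orderOf c = 3 → s * c = c * s →
      orderOf (s * c) = 6 ∧ (s * c) ^ 4 = c := by
    intro s c hs hc hsc
    have hsc' : Commute s c := hsc
    refine ⟨?_, ?_⟩
    · rw [hsc'.orderOf_mul_eq_mul_orderOf_of_coprime (by rw [hs, hc]; norm_num), hs, hc]
    · rw [hsc'.mul_pow, show 4 = 2 * 2 from rfl, pow_mul s, ← hs, pow_orderOf_eq_one, one_pow, one_mul, hs,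
        show 2 * 2 = 3 + 1 from rfl, pow_succ, ← hc, pow_orderOf_eq_one, one_mul]
  -- the number of classes
  have hk : 16 ≤ Nat.card (ConjClasses G) := by
    have h1 := classes (G := G)
      (fun n => if n = 2 then 128 else if n = 3 then 5 else if n = 5 then 4 else if n = 6 then 5 else 128)
      (fun n => if n = 6 then 4 else if n = 10 then 5 else 1)
      ({1, 2, 3, 4, 5, 6, 7, 8, 10, 12, 15} : Finset ℕ) ({2, 3, 5, 6, 10} : Finset ℕ) ?_ ?_
    · have h2 : ({1, 2, 3, 4, 5, 6, 7, 8, 10, 12, 15} : Finset ℕ).card = 11 := by decide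
      have h3 : ({2, 3, 5, 6, 10} : Finset ℕ).card = 5 := by decide
      omega
    · intro n hn
      by_cases h9 : n ∈ ({1, 2, 3, 4, 5, 6, 8, 10, 12} : Finset ℕ)
      · exact Cfsg.Agent.H419.Spor.JModel.exists_orders' D.M n h9
      · have h3 : n = 7 ∨ n = 15 := by
          simp only [Finset.mem_insert, Finset.mem_singleton] at hn h9
          omega
        rcases h3 with rfl | rfl
        · have : Fact (Nat.Prime 7) := ⟨by norm_num⟩
          exact exists_prime_orderOf_dvd_card' 7 (by rw [hG]; norm_num)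
        · exact ⟨y, hyo⟩
    · intro n hn
      simp only [Finset.mem_insert, Finset.mem_singleton] at hn
      rcases hn with rfl | rfl | rfl | rfl | rfl
      · refine ⟨t, u, h.hz, h.hu, ?_, ?_⟩
        · simp only [reduceIte, Nat.reduceEqDiff, pow_one, hct]
          norm_num
        · simp only [reduceIte, Nat.reduceEqDiff, pow_one, hcu]
          norm_num
      · refine ⟨d, b, hd, hb, ?_, ?_⟩
        · simp only [reduceIte, Nat.reduceEqDiff, pow_one, hcd]
          norm_num
        · simp only [reduceIte, Nat.reduceEqDiff, pow_one, hcb]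
          norm_num
      · refine ⟨w, w0, hw, hw0o, ?_, ?_⟩
        · simp only [reduceIte, Nat.reduceEqDiff, pow_one, hcw]
          norm_num
        · simp only [reduceIte, Nat.reduceEqDiff, pow_one]
          exact hn4
      · obtain ⟨e1, e2⟩ := six hs1 hd hs1d
        obtain ⟨e3, e4⟩ := six hs2 hb hs2b
        refine ⟨s1 * d, s2 * b, e1, e3, ?_, ?_⟩
        · simp only [reduceIte, Nat.reduceEqDiff, e2, hcd]
          norm_num
        · simp only [reduceIte, Nat.reduceEqDiff, e4, hcb]
          norm_num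
      · have huw' : Commute u w := huw
        refine ⟨x, u * w, hx, ?_, ?_, ?_⟩
        · rw [huw'.orderOf_mul_eq_mul_orderOf_of_coprime (by rw [h.hu, hw]; norm_num), h.hu, hw]
        · simp only [reduceIte, Nat.reduceEqDiff, hx5, hct]
          norm_num
        · have e1 : (u * w) ^ 5 = u := by
            rw [huw'.mul_pow, ← hw, pow_orderOf_eq_one, mul_one, hw, show 5 = 2 * 2 + 1 from rfl, pow_succ,
              pow_mul, ← h.hu, pow_orderOf_eq_one, one_pow, one_mul]
          simp only [reduceIte, Nat.reduceEqDiff, e1, hcu]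
          norm_num
  -- `VZ`
  have vx : VZ G x := by
    refine vz_of_card _ (lt_of_le_of_lt (Subgroup.card_le_of_le hxle) ?_) fun α => ?_
    · rw [Nat.card_zpowers, hx]
      omega
    · have h1 : IsConj t (α t) := D.isConj_aut α
      rw [hxtw, map_mul]
      refine conj_pow (p := 5) h1 hw0o (by rw [MulEquiv.orderOf_eq, hw0o]) htw0 ?_ (by rw [h.hz]; norm_num) ?_
      · rw [← map_mul, htw0, map_mul]
      · rw [hct]
        norm_num
  have vy : VZ G y := by
    refine vz_of_card _ (by rw [hycard]; omega) fun α => ?_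
    have h1 : IsConj d (α d) := hda _ (by rw [MulEquiv.orderOf_eq, hd]) (by rw [card_cent_aut, hcd])
    rw [hy, map_mul]
    refine conj_pow (p := 5) h1 hw (by rw [MulEquiv.orderOf_eq, hw]) hdw ?_ (by rw [hd]; norm_num) ?_
    · rw [← map_mul, ← map_mul]
      exact congrArg α hdw
    · rw [hcd]
      norm_num
  exact H387.VO.TwoVan.of_order (by rw [hx]; norm_num) (by rw [hyo]; norm_num) vx vy (by rw [hx, hyo]; norm_num)

/-- **The row `J2`, `p = 5`.** -/
theorem two_j2_5 {K : Type u} [Group K] (h : Spor.IsoJ2 K) : H387.VO.TwoVan 5 K := by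
  have hfin : Finite K := by
    obtain ⟨e⟩ := h
    exact Nat.finite_of_card_ne_zero (by
      rw [Nat.card_congr e.toEquiv, Cfsg.Agent.S1619.result.2.2.2]; norm_num)
  obtain ⟨t, u, Q, v, ρ, D⟩ := KFacts.J2.Facts.exists_dat_of h
  exact main D

end Cfsg.Agent.H279.JTwoFive
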