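import Mathlib
import Cfsg.Agent.H691.Defs
import Cfsg.Agent.H681.DegStruct
import Cfsg.Agent.S4813

/-!
# Groups with the character degrees of `SL₂(q)`: the derived subgroup is perfect

Part A of S4854 (task 144).  `cases_of_surj` is the dichotomy of `Cfsg.Agent.H681.DegStruct.cases` for an arbitrary
finite group with a solvable nonabelian quotient; `cases_of_not_perfect` is its form for `G'' ≠ G'`.
-/

set_option autoImplicit false

namespace Cfsg.Agent.H279.PerfDer

open Cfsg Cfsg.Agent.Characters.Core Cfsg.Agent.H681 Cfsg.Agent.H681.DegBasic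

/-- The dichotomy, relative to a surjection on a minimal nonabelian solvable group. -/
theorem cases_of_surj {G Q : Type*} [Group G] [Finite G] [Group Q] [Finite Q] [Group.IsSolvable Q]
    (π : G →* Q) (hπ : Function.Surjective π) (h1 : commutator Q ≠ ⊥)
    (hmin : ∀ M : Subgroup Q, M.Normal → M ≠ ⊥ → commutator Q ≤ M) :
    ∃ (p : ℕ) (f : ℕ), p.Prime ∧ 1 < f ∧
      (((∃ b, f = p ^ b) ∧ ∀ n ∈ charDegrees G, p ∣ n ∨ f * n ∈ charDegrees G) ∨
        (f.Coprime p ∧ ∃ N : Subgroup G, ∃ _ : N.Normal, N.index = f ∧
          ∀ (ψ : N → ℂ), IsIrrCharacter N ψ → ∀ d : ℕ, ψ 1 = d → p ∣ d ∨ f * d ∈ charDegrees G)) := by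
  classical
  have := Fintype.ofFinite G
  have hab := MinNonab.comm_of_mem h1 hmin
  obtain ⟨p, hp, hexp⟩ := MinNonab.exists_prime h1 hab hmin
  have hpf := Fact.mk hp
  by_cases hZ : Subgroup.center Q = ⊥
  · -- Frobenius case
    have hfpf := MinNonab.fixedPointFree hab hmin h1 hZ
    have hidx : 1 < (commutator Q).index := by
      have h0 : (commutator Q).index ≠ 0 := Subgroup.index_ne_zero_of_finite
      have h2 : (commutator Q).index ≠ 1 := by
        intro h
        rw [Subgroup.index_eq_one] at h
        apply h1
        rw [eq_bot_iff, ← hZ]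
        intro v hv
        rw [Subgroup.mem_center_iff]
        intro g
        exact hab g (h ▸ Subgroup.mem_top g) v hv
      omega
    -- `f` is coprime to `p`
    have hcop : (commutator Q).index.Coprime p := by
      rw [Nat.coprime_comm, hp.coprime_iff_not_dvd]
      intro hdvd
      -- a `p`-element outside `V` acts with fixed points on `V`
      have hVp : IsPGroup p (commutator Q) := by
        intro v
        exact ⟨1, Subtype.ext (by simpa using hexp v v.2)⟩
      obtain ⟨P, hP⟩ := hVp.exists_le_sylow
      -- `P ≠ V`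
      have hne : ∃ x ∈ (P : Subgroup Q), x ∉ commutator Q := by
        by_contra hcon
        push Not at hcon
        have heq : (P : Subgroup Q) = commutator Q := le_antisymm hcon hP
        apply P.not_dvd_index
        rw [heq]
        exact hdvd
      obtain ⟨x, hxP, hxV⟩ := hne
      -- `Z(P) ∩ V ≠ 1`
      have hPp : IsPGroup p (P : Subgroup Q) := P.isPGroup'
      let V' : Subgroup (P : Subgroup Q) := (commutator Q).subgroupOf P
      have hV'n : V'.Normal := inferInstance
      have hV'1 : V' ≠ ⊥ := by
        intro h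
        apply h1
        rw [eq_bot_iff]
        intro v hv
        have : (⟨v, hP hv⟩ : (P : Subgroup Q)) ∈ V' := Subgroup.mem_subgroupOf.2 hv
        rw [h, Subgroup.mem_bot] at this
        exact Subgroup.mem_bot.2 (congrArg Subtype.val this)
      obtain ⟨z, hz1, hz2, hz⟩ :=
        Cfsg.Agent.Transfer.PGroupNormal.exists_mem_inf_center_orderOf hPp V' hV'1
      have hz3 : (z : Q) ∈ commutator Q := Subgroup.mem_subgroupOf.1 hz1
      have hz4 := Subgroup.mem_center_iff.1 hz2 ⟨x, hxP⟩
      have hz5 : x * (z : Q) = z * x := congrArg Subtype.val hz4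
      have hz6 := hfpf x hxV z hz3 hz5
      have hz7 : z = 1 := Subtype.ext hz6
      rw [hz7, orderOf_one] at hz
      exact hp.one_lt.ne hz
    refine ⟨p, (commutator Q).index, hp, hidx, Or.inr ⟨hcop, (commutator Q).comap π,
      (inferInstance : (commutator Q).Normal).comap _, ?_, ?_⟩⟩
    · exact Subgroup.index_comap_of_surjective _ hπ
    · intro ψ hψ d hψd
      by_cases hpd : p ∣ d
      · exact Or.inl hpd
      · right
        have hNn : ((commutator Q).comap π).Normal := (inferInstance : (commutator Q).Normal).comap _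
        exact FrobDeg.index_mul_mem (commutator Q) π hπ hab hfpf h1
          (p := p) (m := 1) (by simpa using hexp) ((commutator Q).comap π) rfl hψ hψd
          (((Nat.Prime.coprime_iff_not_dvd hp).2 hpd).symm)
  · -- the `p`-group case
    have hPG : IsPGroup p Q := MinNonab.isPGroup_of_center h1 hp hexp hmin hZ
    obtain ⟨a, ha⟩ := IsPGroup.iff_card.1 hPG
    -- a nonlinear irreducible character of the quotient
    obtain ⟨f, hf, hf1⟩ : ∃ f ∈ charDegrees Q, f ≠ 1 := by
      by_contra hcon
      push Not at hcon
      apply h1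
      have hall : ∀ χ : IrrCharacter Q, (χ : Q → ℂ) 1 = 1 := by
        intro χ
        obtain ⟨m, hm, hm'⟩ := isIrr_apply_one χ.2
        have := hcon m (mem_charDegrees.2 ⟨χ, χ.2, hm'⟩)
        rw [hm', this, Nat.cast_one]
      have hc := S0187.result.2 hall
      rw [commutator_eq_bot_iff_center_eq_top, Subgroup.eq_top_iff']
      intro x
      rw [Subgroup.mem_center_iff]
      intro y
      exact hc y x
    have hfp : ∃ b, f = p ^ b := by
      have h2 := dvd_card hf
      rw [ha] at h2
      obtain ⟨b, -, hb⟩ := (Nat.dvd_prime_pow hp).1 h2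
      exact ⟨b, hb⟩
    have hfpos := pos_of_mem hf
    refine ⟨p, f, hp, by omega, Or.inl ⟨hfp, ?_⟩⟩
    intro n hn
    by_cases hpn : p ∣ n
    · exact Or.inl hpn
    · right
      obtain ⟨χ, hχ, hχn⟩ := mem_charDegrees.1 hn
      have := Fintype.ofFinite π.ker
      obtain ⟨ψ, d, hψ, hψd, hne, hd1, hd2⟩ := exists_constituent π.ker hχ hχn
      have hidx : π.ker.index = p ^ a := by
        rw [← ha]
        have := Nat.card_congr (QuotientGroup.quotientKerEquivOfSurjective π hπ).toEquiv
        exact this
      rw [hidx] at hd2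
      have hnd : n / d = 1 := by
        have h2 : n / d ∣ n := Nat.div_dvd_of_dvd hd1
        have h3 : (n / d).Coprime (p ^ a) := by
          refine Nat.Coprime.pow_right a ?_
          rw [Nat.coprime_comm, hp.coprime_iff_not_dvd]
          exact fun h => hpn (h.trans h2)
        exact Nat.eq_one_of_dvd_coprimes h3 dvd_rfl hd2
      have hdn : d = n := by
        have := Nat.div_mul_cancel hd1
        rw [hnd, one_mul] at this
        exact this
      have hres := restrict_eq_of_degree π.ker (isIrr_isCharacter hχ) hψ hne (by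
        rw [hχn, hψd, hdn])
      exact gallagher π hπ π.ker (fun k hk => hk) hχ (by rw [hres]; exact hψ) hχn hf

/-- The dichotomy for a finite group whose derived subgroup is not perfect. -/
theorem cases_of_not_perfect {G : Type*} [Group G] [Finite G]
    (hG : ⁅commutator G, commutator G⁆ ≠ commutator G) :
    ∃ (p : ℕ) (f : ℕ), p.Prime ∧ 1 < f ∧
      (((∃ b, f = p ^ b) ∧ ∀ n ∈ charDegrees G, p ∣ n ∨ f * n ∈ charDegrees G) ∨
        (f.Coprime p ∧ ∃ N : Subgroup G, ∃ _ : N.Normal, N.index = f ∧
          ∀ (ψ : N → ℂ), IsIrrCharacter N ψ → ∀ d : ℕ, ψ 1 = d → p ∣ d ∨ f * d ∈ charDegrees G)) := by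
  classical
  set D : Subgroup G := ⁅commutator G, commutator G⁆ with hD
  have hDn : D.Normal := inferInstance
  have hπ := QuotientGroup.mk'_surjective D
  have hmap : commutator (G ⧸ D) = (commutator G).map (QuotientGroup.mk' D) := by
    rw [commutator_def, commutator_def, Subgroup.map_commutator,
      Subgroup.map_top_of_surjective _ hπ]
  have hne : commutator (G ⧸ D) ≠ ⊥ := by
    intro h
    rw [hmap, Subgroup.map_eq_bot_iff, QuotientGroup.ker_mk'] at h
    exact hG (le_antisymm (Subgroup.commutator_le_left _ _) h)
  have hsol : Group.IsSolvable (G ⧸ D) := by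
    refine ⟨2, ?_⟩
    have h1 : derivedSeries (G ⧸ D) 1 = commutator (G ⧸ D) := derivedSeries_one _
    rw [derivedSeries_succ, h1, hmap, ← Subgroup.map_commutator, Subgroup.map_eq_bot_iff,
      QuotientGroup.ker_mk']
  obtain ⟨K, hKn, h1, hmin⟩ := MinNonab.exists_quotient hne
  have hsolK : Group.IsSolvable ((G ⧸ D) ⧸ K) :=
    Group.isSolvable_of_surjective (QuotientGroup.mk'_surjective K)
  exact cases_of_surj ((QuotientGroup.mk' K).comp (QuotientGroup.mk' D))
    ((QuotientGroup.mk'_surjective K).comp hπ) h1 hmin

/-- **Part A of S4854**: a finite group with the character degrees of `SL₂(q)`, `q ≥ 5`, has a perfect derived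
subgroup. -/
theorem perfect_derived {G : Type*} [Group G] [Finite G] {p F : ℕ} (hp : p.Prime) (h5 : 5 ≤ p ^ F)
    (h : charDegrees G = Cfsg.Agent.H691.DS (p ^ F)) : ⁅commutator G, commutator G⁆ = commutator G := by
  classical
  have := Fintype.ofFinite G
  by_contra hcon
  obtain ⟨r, f, hr, hf, hc⟩ := cases_of_not_perfect hcon
  generalize hq : p ^ F = q at *
  have hle : ∀ n ∈ charDegrees G, n ≤ q + 1 := by
    intro n hn
    rw [h] at hn
    rcases hn with hn | hn | hn | hn | hn | hn <;> omega
  have hqm : q ∈ charDegrees G := by rw [h]; exact Or.inr (Or.inl rfl)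
  have hq1 : q + 1 ∈ charDegrees G := by rw [h]; exact Or.inr (Or.inr (Or.inr (Or.inl rfl)))
  have hq2 : q - 1 ∈ charDegrees G := by rw [h]; exact Or.inr (Or.inr (Or.inl (by omega)))
  have hr2 := hr.two_le
  -- a prime does not divide both `q` and `q + 1`
  have hrq : ¬ (r ∣ q ∧ r ∣ q + 1) := by
    rintro ⟨h1, h2⟩
    have h3 := (Nat.dvd_add_right h1).1 h2
    have := Nat.le_of_dvd one_pos h3
    omega
  rcases hc with ⟨-, hc⟩ | ⟨hfr, N, hN, hNf, hc⟩
  · by_cases h1 : r ∣ q
    · rcases hc _ hq1 with h2 | h2
      · exact hrq ⟨h1, h2⟩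
      · have := hle _ h2
        nlinarith
    · rcases hc _ hqm with h2 | h2
      · exact h1 h2
      · have := hle _ h2
        nlinarith
  · have := Fintype.ofFinite N
    -- degrees below a degree
    have hbel : ∀ n ∈ charDegrees G, ∃ d ∈ charDegrees N, d ∣ n ∧ n ∣ f * d ∧ n / d ∣ f := by
      intro n hn
      obtain ⟨χ, hχ, hχn⟩ := mem_charDegrees.1 hn
      obtain ⟨ψ, d, hψ, hψd, -, hd1, hd2⟩ := exists_constituent N hχ hχn
      rw [hNf] at hd2
      refine ⟨d, mem_charDegrees.2 ⟨ψ, hψ, hψd⟩, hd1, ?_, hd2⟩
      have := Nat.mul_dvd_mul_right hd2 d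
      rwa [Nat.div_mul_cancel hd1] at this
    have hc' : ∀ d ∈ charDegrees N, r ∣ d ∨ f * d ∈ charDegrees G := by
      intro d hd
      obtain ⟨ψ, hψ, hψd⟩ := mem_charDegrees.1 hd
      exact hc ψ hψ d hψd
    have hfm : f ∈ charDegrees G := by
      rcases hc' 1 one_mem with h1 | h1
      · have := Nat.le_of_dvd one_pos h1
        omega
      · rwa [mul_one] at h1
    by_cases hfq : f = q
    · subst hfq
      -- `f = q`
      have hrf : ¬ r ∣ f := by
        intro h1
        have h2 : r ∣ 1 := by
          have h3 : Nat.gcd f r = 1 := hfr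
          rw [← h3]; exact Nat.dvd_gcd h1 dvd_rfl
        have := Nat.le_of_dvd one_pos h2
        omega
      have key : ∀ n ∈ charDegrees G, n.Coprime f → 2 ≤ n → r ∣ n := by
        intro n hn hnc hn2
        obtain ⟨d, hd, hd1, hd2, hd3⟩ := hbel n hn
        have h1 : n / d = 1 := Nat.eq_one_of_dvd_coprimes (hnc.coprime_dvd_left (Nat.div_dvd_of_dvd hd1)) dvd_rfl hd3
        have h2 : d = n := by
          have := Nat.div_mul_cancel hd1
          rw [h1, one_mul] at this
          exact this
        subst h2
        rcases hc' d hd with h3 | h3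
        · exact h3
        · have := hle _ h3
          nlinarith
      have hc1 : (f + 1).Coprime f := by simp
      have hc2 : (f - 1).Coprime f := by
        obtain ⟨k, rfl⟩ : ∃ k, f = k + 1 := ⟨f - 1, by omega⟩
        simp
      have h1 := key _ hq1 hc1 (by omega)
      have h2 := key _ hq2 hc2 (by omega)
      have h3 : r ∣ 2 := by
        have := Nat.dvd_sub h1 h2
        rwa [show f + 1 - (f - 1) = 2 by omega] at this
      have h4 : r = 2 := (Nat.prime_dvd_prime_iff_eq hr Nat.prime_two).1 h3
      subst h4
      -- `q` is odd and one of `(q ± 1) / 2` is odd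
      obtain ⟨n, hn1, hn2⟩ : ∃ n, ¬ 2 ∣ n ∧ (2 * n = f + 1 ∨ 2 * n + 1 = f) := by
        obtain ⟨a, ha⟩ := h1
        by_cases h5 : 2 ∣ a
        · exact ⟨a - 1, by omega, Or.inr (by omega)⟩
        · exact ⟨a, h5, Or.inl (by omega)⟩
      have hn3 : n ∈ charDegrees G := by
        rw [h]
        rcases hn2 with h5 | h5
        · exact Or.inr (Or.inr (Or.inr (Or.inr (Or.inl h5))))
        · exact Or.inr (Or.inr (Or.inr (Or.inr (Or.inr h5))))
      refine hn1 (key n hn3 ?_ (by omega))
      rcases hn2 with h5 | h5
      · refine Nat.Coprime.coprime_dvd_left (Dvd.intro_left 2 h5) hc1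
      · refine Nat.Coprime.coprime_dvd_left (Dvd.intro_left 2 ?_) hc2
        omega
    · -- `f` is coprime to `q`
      have hfq' : f.Coprime q := by
        rw [h] at hfm
        have hc1 : (q + 1).Coprime q := by simp
        have hc2 : (q - 1).Coprime q := by
          obtain ⟨k, rfl⟩ : ∃ k, q = k + 1 := ⟨q - 1, by omega⟩
          simp
        rcases hfm with h1 | h1 | h1 | h1 | h1 | h1
        · omega
        · exact absurd h1 hfq
        · exact Nat.Coprime.coprime_dvd_left (by rw [show q - 1 = f by omega]) hc2
        · rw [h1]; exact hc1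
        · exact Nat.Coprime.coprime_dvd_left (Dvd.intro_left 2 h1) hc1
        · exact Nat.Coprime.coprime_dvd_left (Dvd.intro_left 2 (by omega)) hc2
      -- `r ∣ q`
      have hrq' : r ∣ q := by
        obtain ⟨d, hd, hd1, hd2, hd3⟩ := hbel q hqm
        have h1 : q / d = 1 := Nat.eq_one_of_dvd_coprimes
          (hfq'.symm.coprime_dvd_left (Nat.div_dvd_of_dvd hd1)) dvd_rfl hd3
        have h2 : d = q := by
          have := Nat.div_mul_cancel hd1
          rw [h1, one_mul] at this
          exact this
        subst h2
        rcases hc' d hd with h3 | h3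
        · exact h3
        · have := hle _ h3
          nlinarith
      have hrp : r = p := by
        rw [← hq] at hrq'
        exact (Nat.prime_dvd_prime_iff_eq hr hp).1 (hr.dvd_of_dvd_pow hrq')
      -- `f ∣ q + 1`
      have hf1 : f ∣ q + 1 := by
        obtain ⟨d, hd, hd1, hd2, hd3⟩ := hbel _ hq1
        rcases hc' d hd with h3 | h3
        · exact absurd ⟨hrq', h3.trans hd1⟩ hrq
        · have h4 := hle _ h3
          have h5 := pos_of_mem h3
          have h6 := Nat.le_of_dvd h5 hd2
          exact ⟨d, by omega⟩
      have hf2 : f ∣ q - 1 := by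
        obtain ⟨d, hd, hd1, hd2, hd3⟩ := hbel _ hq2
        rcases hc' d hd with h3 | h3
        · exfalso
          have h4 := h3.trans hd1
          have h5 := Nat.dvd_sub hrq' h4
          rw [show q - (q - 1) = 1 by omega] at h5
          have := Nat.le_of_dvd one_pos h5
          omega
        · have h4 := hle _ h3
          have h5 := pos_of_mem h3
          obtain ⟨e, he⟩ := hd2
          have h7 : e = 1 := by
            have h8 : e ≠ 0 := by
              rintro rfl
              omega
            have h9 : e < 2 := by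
              by_contra h10
              have : (q - 1) * 2 ≤ (q - 1) * e := Nat.mul_le_mul_left _ (by omega)
              omega
            omega
          rw [h7, mul_one] at he
          exact ⟨d, he.symm⟩
      have hf3 : f ∣ 2 := by
        have := Nat.dvd_sub hf1 hf2
        rwa [show q + 1 - (q - 1) = 2 by omega] at this
      have hf4 : f = 2 := by
        have := Nat.le_of_dvd (by norm_num) hf3
        omega
      subst hf4
      -- `q = 5`
      have hq5 : q = 5 := by
        rw [h] at hfm
        have hodd : ¬ 2 ∣ q := by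
          intro h1
          have h2 : 2 ∣ 1 := by
            have h3 : Nat.gcd 2 q = 1 := hfq'
            rw [← h3]; exact Nat.dvd_gcd dvd_rfl h1
          omega
        rcases hfm with h1 | h1 | h1 | h1 | h1 | h1 <;> omega
      subst hq5
      have hr5 : r = 5 := (Nat.prime_dvd_prime_iff_eq hr Nat.prime_five).1 hrq'
      subst hr5
      -- the degrees of `N`
      have hcdN : ∀ d ∈ charDegrees N, d = 1 ∨ d = 2 ∨ d = 3 ∨ d = 5 := by
        intro d hd
        rcases hc' d hd with h1 | h1
        · obtain ⟨θ, hθ, hθd⟩ := mem_charDegrees.1 hd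
          obtain ⟨χ, hχ, hne⟩ := Cfsg.Agent.CharDeep.PowerDegrees.exists_irr_over N hθ
          obtain ⟨m, hm, hm'⟩ := isIrr_apply_one hχ
          have hdm := (S0887.result N χ hχ θ hθ hne m d hm' hθd).1
          have h2 : m ∈ charDegrees G := mem_charDegrees.2 ⟨χ, hχ, hm'⟩
          have h3 := pos_of_mem h2
          have h4 := Nat.le_of_dvd h3 hdm
          have h5 := hle _ h2
          have h6 := pos_of_mem hd
          omega
        · rw [h] at h1
          have h6 := pos_of_mem hd
          rcases h1 with h1 | h1 | h1 | h1 | h1 | h1 <;> omega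
      have hprime : ∀ d ∈ charDegrees N, d = 1 ∨ d.Prime := by
        intro d hd
        rcases hcdN d hd with rfl | rfl | rfl | rfl
        · exact Or.inl rfl
        · exact Or.inr Nat.prime_two
        · exact Or.inr Nat.prime_three
        · exact Or.inr Nat.prime_five
      have hcard := S4813.result hprime
      have h2 : 2 ∈ charDegrees N := by
        obtain ⟨d, hd, hd1, hd2, hd3⟩ := hbel 4 hq2
        rcases hcdN d hd with rfl | rfl | rfl | rfl
        · norm_num at hd2
        · exact hd
        · norm_num at hd1
        · norm_num at hd1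
      have h3 : 3 ∈ charDegrees N := by
        obtain ⟨d, hd, hd1, hd2, hd3⟩ := hbel 6 hq1
        rcases hcdN d hd with rfl | rfl | rfl | rfl
        · norm_num at hd2
        · norm_num at hd2
        · exact hd
        · norm_num at hd1
      have h4 : 5 ∈ charDegrees N := by
        obtain ⟨d, hd, hd1, hd2, hd3⟩ := hbel 5 hqm
        rcases hcdN d hd with rfl | rfl | rfl | rfl
        · norm_num at hd2
        · norm_num at hd2
        · norm_num at hd2
        · exact hd
      have hsub : ((({1, 2, 3, 5} : Finset ℕ)) : Set ℕ) ⊆ charDegrees N := by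
        intro d hd
        simp only [Finset.coe_insert, Finset.coe_singleton, Set.mem_insert_iff,
          Set.mem_singleton_iff] at hd
        rcases hd with rfl | rfl | rfl | rfl
        · exact one_mem
        · exact h2
        · exact h3
        · exact h4
      have hfin : (charDegrees N).Finite :=
        (Set.finite_Iic (Nat.card N)).subset fun d hd => Nat.le_of_dvd Nat.card_pos (dvd_card hd)
      have h5 := Set.ncard_le_ncard hsub hfin
      rw [Set.ncard_coe_finset, ← Nat.card_coe_set_eq] at h5
      have h6 : ({1, 2, 3, 5} : Finset ℕ).card = 4 := by decide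
      omega

end Cfsg.Agent.H279.PerfDer
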