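import Cfsg.Agent.H464.AltExt
import Cfsg.Agent.H621.AltChar

/-!
# Orbits of a highly transitive group on pairs of subsets (helper279)

* `agree` : an `m`-transitive group contains elements agreeing with a given permutation on `m` points;
* `orb` : the number of orbits on pairs of a `j`-subset and a `k`-subset;
* `irr_triples` : `pc (3-subsets) - pc (2-subsets)` is irreducible for a `6`-transitive group.
-/

set_option autoImplicit false

namespace Cfsg.Agent.H279.Subsets

open Cfsg Cfsg.Agent.Characters.Core MulAction Equiv Cfsg.Agent.H464.PermIrr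
open scoped Pointwise

theorem choose_lt {n : ℕ} (h : 6 < n) : n.choose 2 < n.choose 3 := by
  have h1 : n.choose 3 * 3 = n.choose 2 * (n - 2) := Nat.choose_succ_right_eq n 2
  have h2 : 0 < n.choose 2 := Nat.choose_pos (by omega)
  have h3 : n.choose 2 * 5 ≤ n.choose 2 * (n - 2) := Nat.mul_le_mul_left _ (by omega)
  omega

section

variable (G : Type*) [Group G] {Ω : Type*} [MulAction G Ω] [Finite Ω]

theorem agree {m : ℕ} (hm : m ≤ Nat.card Ω) [h : IsMultiplyPretransitive G Ω m] (u : Finset Ω)
    (hu : u.card ≤ m) (σ : Perm Ω) : ∃ g : G, ∀ x ∈ u, g • x = σ x := by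
  have h1 : IsMultiplyPretransitive G Ω u.card :=
    isMultiplyPretransitive_of_le (n := m) hu hm
  rw [isMultiplyPretransitive_iff] at h1
  let a : Fin u.card ↪ Ω := u.equivFin.symm.toEmbedding.trans (Function.Embedding.subtype _)
  obtain ⟨g, hg⟩ := h1 a (a.trans σ.toEmbedding)
  refine ⟨g, fun x hx => ?_⟩
  have h2 := congrArg (fun f : Fin u.card ↪ Ω => f (u.equivFin ⟨x, hx⟩)) hg
  simpa [a] using h2

variable [DecidableEq Ω]

omit [Finite Ω] in
theorem exists_perm [Fintype Ω] {s t s' t' : Finset Ω} (hs : s.card = s'.card) (ht : t.card = t'.card)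
    (hst : (s ∩ t).card = (s' ∩ t').card) : ∃ σ : Perm Ω, ∀ x, (σ x ∈ s' ↔ x ∈ s) ∧ (σ x ∈ t' ↔ x ∈ t) := by
  classical
  let c : Finset Ω → Finset Ω → Ω → Bool × Bool := fun s t x => (decide (x ∈ s), decide (x ∈ t))
  have key : ∀ b, Nonempty ({x // c s t x = b} ≃ {x // c s' t' x = b}) := by
    intro b
    refine ⟨Fintype.equivOfCardEq ?_⟩
    rw [Fintype.card_subtype, Fintype.card_subtype]
    have e1 : ∀ s t : Finset Ω, (Finset.univ.filter fun x => c s t x = (true, true)) = s ∩ t := by
      intro s t; ext x; simp [c]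
    have e2 : ∀ s t : Finset Ω, (Finset.univ.filter fun x => c s t x = (true, false)) = s \ t := by
      intro s t; ext x; simp [c]
    have e3 : ∀ s t : Finset Ω, (Finset.univ.filter fun x => c s t x = (false, true)) = t \ s := by
      intro s t; ext x; simp [c, and_comm]
    have e4 : ∀ s t : Finset Ω, (Finset.univ.filter fun x => c s t x = (false, false)) = (s ∪ t)ᶜ := by
      intro s t; ext x; simp [c]
    have f1 := Finset.card_sdiff_add_card_inter s t
    have f1' := Finset.card_sdiff_add_card_inter s' t'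
    have f2 := Finset.card_sdiff_add_card_inter t s
    have f2' := Finset.card_sdiff_add_card_inter t' s'
    have f3 := Finset.card_union_add_card_inter s t
    have f3' := Finset.card_union_add_card_inter s' t'
    have f4 := Finset.card_compl_add_card (s ∪ t)
    have f4' := Finset.card_compl_add_card (s' ∪ t')
    rw [Finset.inter_comm] at f2 f2'
    rcases b with ⟨_ | _, _ | _⟩
    · rw [e4, e4]; omega
    · rw [e3, e3]; omega
    · rw [e2, e2]; omega
    · rw [e1, e1]; omega
  refine ⟨Equiv.ofFiberEquiv (f := c s t) (g := c s' t') fun b => (key b).some, fun x => ?_⟩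
  have h1 : c s' t' (Equiv.ofFiberEquiv (f := c s t) (g := c s' t') (fun b => (key b).some) x) = c s t x :=
    Equiv.ofFiberEquiv_map _ x
  simp only [c, Prod.mk.injEq, decide_eq_decide] at h1
  exact h1

theorem exists_smul {m : ℕ} (hm : m ≤ Nat.card Ω) [IsMultiplyPretransitive G Ω m] {s t s' t' : Finset Ω}
    (hle : s.card + t.card ≤ m) (hs : s.card = s'.card) (ht : t.card = t'.card)
    (hst : (s ∩ t).card = (s' ∩ t').card) : ∃ g : G, g • s = s' ∧ g • t = t' := by
  have := Fintype.ofFinite Ω
  obtain ⟨σ, hσ⟩ := exists_perm hs ht hst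
  obtain ⟨g, hg⟩ := agree G hm (s ∪ t) ((Finset.card_union_le s t).trans hle) σ
  refine ⟨g, ?_, ?_⟩
  · refine Finset.eq_of_subset_of_card_le ?_ (by rw [Finset.card_smul_finset, hs])
    intro y hy
    obtain ⟨x, hx, rfl⟩ := Finset.mem_smul_finset.1 hy
    rw [hg x (Finset.mem_union_left _ hx)]
    exact (hσ x).1.2 hx
  · refine Finset.eq_of_subset_of_card_le ?_ (by rw [Finset.card_smul_finset, ht])
    intro y hy
    obtain ⟨x, hx, rfl⟩ := Finset.mem_smul_finset.1 hy
    rw [hg x (Finset.mem_union_right _ hx)]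
    exact (hσ x).2.2 hx

theorem orb {m j k : ℕ} (hm : m ≤ Nat.card Ω) [IsMultiplyPretransitive G Ω m] (hjk : j + k ≤ m) :
    Nat.card (orbitRel.Quotient G (Set.powersetCard Ω j × Set.powersetCard Ω k)) = min j k + 1 := by
  have := Fintype.ofFinite Ω
  have hlt : ∀ z : Set.powersetCard Ω j × Set.powersetCard Ω k,
      ((z.1 : Finset Ω) ∩ (z.2 : Finset Ω)).card < min j k + 1 := by
    intro z
    have h1 := Finset.card_le_card (Finset.inter_subset_left (s₁ := (z.1 : Finset Ω)) (s₂ := (z.2 : Finset Ω)))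
    have h2 := Finset.card_le_card (Finset.inter_subset_right (s₁ := (z.1 : Finset Ω)) (s₂ := (z.2 : Finset Ω)))
    rw [Set.powersetCard.card_eq] at h1 h2
    omega
  refine card_orbits G (fun z => ⟨((z.1 : Finset Ω) ∩ (z.2 : Finset Ω)).card, hlt z⟩) ?_ ?_ ?_
  · rintro g ⟨s, t⟩
    apply Fin.ext
    change (((g • s : Set.powersetCard Ω j) : Finset Ω) ∩ ((g • t : Set.powersetCard Ω k) : Finset Ω)).card =
      ((s : Finset Ω) ∩ (t : Finset Ω)).card
    rw [Set.powersetCard.coe_smul, Set.powersetCard.coe_smul, ← Finset.smul_finset_inter, Finset.card_smul_finset]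
  · rintro ⟨i, hi⟩
    have hi' : i ≤ j ∧ i ≤ k := by omega
    have hN : j + k ≤ (Finset.univ : Finset Ω).card := by
      rw [Finset.card_univ, ← Nat.card_eq_fintype_card]
      omega
    obtain ⟨s, -, hs⟩ := Finset.exists_subset_card_eq (s := (Finset.univ : Finset Ω)) (n := j) (by omega)
    obtain ⟨a, ha, ha'⟩ := Finset.exists_subset_card_eq (s := s) (n := i) (by omega)
    obtain ⟨b, hb, hb'⟩ := Finset.exists_subset_card_eq (s := sᶜ) (n := k - i) (by
      rw [Finset.card_compl, ← Finset.card_univ]; omega)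
    have hab : Disjoint a b := by
      rw [Finset.disjoint_left]
      intro x hx hx'
      exact (Finset.mem_compl.1 (hb hx')) (ha hx)
    refine ⟨(⟨s, hs⟩, ⟨a ∪ b, ?_⟩), Fin.ext ?_⟩
    · rw [Set.powersetCard.mem_iff, Finset.card_union_of_disjoint hab]
      omega
    · change (s ∩ (a ∪ b)).card = i
      have : s ∩ (a ∪ b) = a := by
        ext x
        simp only [Finset.mem_inter, Finset.mem_union]
        constructor
        · rintro ⟨h1, h2 | h2⟩
          · exact h2
          · exact absurd h1 (Finset.mem_compl.1 (hb h2))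
        · intro h
          exact ⟨ha h, Or.inl h⟩
      rw [this, ha']
  · rintro ⟨⟨s, hs⟩, ⟨t, ht⟩⟩ ⟨⟨s', hs'⟩, ⟨t', ht'⟩⟩ h
    replace h : (s ∩ t).card = (s' ∩ t').card := congrArg Fin.val h
    have hs2 : s.card = j := hs
    have ht2 : t.card = k := ht
    have hs2' : s'.card = j := hs'
    have ht2' : t'.card = k := ht'
    obtain ⟨g, h1, h2⟩ := exists_smul G hm (s := s) (t := t) (s' := s') (t' := t') (by omega) (by omega) (by omega) h
    exact ⟨g, Prod.ext (Subtype.ext h1) (Subtype.ext h2)⟩

/-- The constituent `(n - 3, 3)`. -/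
theorem irr_triples [Finite G] (h8 : 6 < Nat.card Ω) [IsMultiplyPretransitive G Ω 6] :
    IsIrrCharacter G (pc G (Set.powersetCard Ω 3) - pc G (Set.powersetCard Ω 2)) := by
  refine irr_sub G _ _ ?_ (orb G (m := 6) h8.le (by norm_num)) (orb G (m := 6) h8.le (by norm_num))
    (orb G (m := 6) h8.le (by norm_num)) (by norm_num)
  rw [Set.powersetCard.card, Set.powersetCard.card]
  exact choose_lt h8

end

end Cfsg.Agent.H279.Subsets
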