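import Cfsg.Agent.H279.TwoDeg
import Cfsg.Agent.H701.ZerosMathieu
import Cfsg.Agent.H417.RecogMathieu
import Cfsg.Agent.H419.Spor.M12

/-!
# S4897: the rows of the Mathieu groups
-/

set_option autoImplicit false

namespace Cfsg.Agent.H279.TwoMathieu

open Cfsg Subgroup Cfsg.Agent.Characters.Core Cfsg.Agent.H504.TwoZ Cfsg.Agent.H504.Zeros Cfsg.Agent.H279.TwoDeg
open Cfsg.Agent.H92.KTools Cfsg.Agent.H180.KMathieu Cfsg.Agent.H701.ZMathieu

theorem charDegree_eq {S : Type*} [Group S] [Finite S] {χ : IrrCharacter S} {d : ℕ}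
    (h : (χ : S → ℂ) 1 = d) : charDegree (χ : S → ℂ) = d := by
  have h1 := Cfsg.Agent.Blocks.Knorr.charDegree_eq χ.2
  rw [h] at h1
  exact_mod_cast h1.symm

/-- `M₁₁`: the characters of degrees 45 and 16 -/
theorem m11 {S : Type} [Group S] (h : Cfsg.Spor.IsoM11 S) : RowT S := by
  have := Cfsg.Agent.Cit.Eleven.finite h
  have hG := Cfsg.Agent.UGT.End.MEleven.isM11 h
  have hc : Nat.card S = 7920 := hG.2
  obtain ⟨x, hx, v, hB⟩ := Cfsg.Agent.SporadicA.M11Facts.exists_caseC hG
  have d4 : charDegree (v 4 : S → ℂ) = 45 := charDegree_eq (hB.degs 4)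
  have d5 : charDegree (v 5 : S → ℂ) = 16 := charDegree_eq (hB.degs 5)
  have o6 : HasOrd S 6 := Cfsg.Agent.H180.KM11.exists_six h
  have o8 : HasOrd S 8 := Cfsg.Agent.H180.KM11.exists_eight h
  refine rowT_of_deg (θ₁ := v 4) (θ₂ := v 5) (by rw [d4, d5]; norm_num) {3, 5, 6} {2, 4, 8} ?_ ?_ (by decide)
    (by decide)
  · intro n hn
    simp only [Finset.mem_insert, Finset.mem_singleton] at hn
    rcases hn with rfl | rfl | rfl
    · exact ZO.mk' 3 2 (o6.of_dvd (by norm_num) (by norm_num)) hc d4 (by norm_num) (by norm_num)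
    · exact ZO.mk' 5 1 (hasOrd_prime (by norm_num) (by rw [hc]; norm_num)) hc d4 (by norm_num) (by norm_num)
    · exact ZO.mk' 3 2 o6 hc d4 (by norm_num) (by norm_num)
  · intro n hn
    simp only [Finset.mem_insert, Finset.mem_singleton] at hn
    rcases hn with rfl | rfl | rfl
    · exact ZO.mk' 2 4 (o8.of_dvd (by norm_num) (by norm_num)) hc d5 (by norm_num) (by norm_num)
    · exact ZO.mk' 2 4 (o8.of_dvd (by norm_num) (by norm_num)) hc d5 (by norm_num) (by norm_num)
    · exact ZO.mk' 2 4 o8 hc d5 (by norm_num) (by norm_num)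

/-- `M₂₂`: the characters of degrees 385 and 99 -/
theorem m22 {S : Type} [Group S] (h : Cfsg.Spor.IsoM22 S) : RowT S := by
  have hG := Cfsg.Agent.H417.RecogMathieu.isM22 h
  have hc : Nat.card S = 443520 := hG.2
  have : Finite S := Nat.finite_of_card_ne_zero (by rw [hc]; norm_num)
  obtain ⟨e⟩ := h
  obtain ⟨f, hf⟩ := Cfsg.Agent.H417.DegMTwentyTwo.exists_enum hG
  have d1 : charDegree (f 11 : S → ℂ) = 385 := hf 11
  have d2 : charDegree (f 5 : S → ℂ) = 99 := hf 5
  have o6 : HasOrd S 6 := ord22_6.of_equiv e.symm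
  refine rowT_of_deg (θ₁ := f 11) (θ₂ := f 5) (by rw [d1, d2]; norm_num) {5, 7, 11} {3, 6, 11} ?_ ?_ (by decide)
    (by decide)
  · intro n hn
    simp only [Finset.mem_insert, Finset.mem_singleton] at hn
    rcases hn with rfl | rfl | rfl
    · exact ZO.mk' 5 1 (hasOrd_prime (by norm_num) (by rw [hc]; norm_num)) hc d1 (by norm_num) (by norm_num)
    · exact ZO.mk' 7 1 (hasOrd_prime (by norm_num) (by rw [hc]; norm_num)) hc d1 (by norm_num) (by norm_num)
    · exact ZO.mk' 11 1 (hasOrd_prime (by norm_num) (by rw [hc]; norm_num)) hc d1 (by norm_num) (by norm_num)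
  · intro n hn
    simp only [Finset.mem_insert, Finset.mem_singleton] at hn
    rcases hn with rfl | rfl | rfl
    · exact ZO.mk' 3 2 (o6.of_dvd (by norm_num) (by norm_num)) hc d2 (by norm_num) (by norm_num)
    · exact ZO.mk' 3 2 o6 hc d2 (by norm_num) (by norm_num)
    · exact ZO.mk' 11 1 (hasOrd_prime (by norm_num) (by rw [hc]; norm_num)) hc d2 (by norm_num) (by norm_num)

/-- `M₂₃`: the characters of degrees 230 and 1035 -/
theorem m23 {S : Type} [Group S] (h : Cfsg.Spor.IsoM23 S) : RowT S := by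
  have hG := Cfsg.Agent.H417.RecogMathieu.isM23 h
  have hc : Nat.card S = 10200960 := hG.2
  have : Finite S := Nat.finite_of_card_ne_zero (by rw [hc]; norm_num)
  obtain ⟨e⟩ := h
  obtain ⟨hs, H, z, v, a, b, c, d, g, h, b₁, c₁, K⟩ := Cfsg.Agent.H417.DegMTwentyThree.exists_elev' hG
  have d1 : charDegree (a : S → ℂ) = 230 := K.dga
  have d2 : charDegree (d : S → ℂ) = 1035 := K.dgd
  have o15 : HasOrd S 15 := ord23_15.of_equiv e.symm
  refine rowT_of_deg (θ₁ := a) (θ₂ := d) (by rw [d1, d2]; norm_num) {5, 15, 23} {5, 15, 23} ?_ ?_ (by decide)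
    (by decide)
  · intro n hn
    simp only [Finset.mem_insert, Finset.mem_singleton] at hn
    rcases hn with rfl | rfl | rfl
    · exact ZO.mk' 5 1 (o15.of_dvd (by norm_num) (by norm_num)) hc d1 (by norm_num) (by norm_num)
    · exact ZO.mk' 5 1 o15 hc d1 (by norm_num) (by norm_num)
    · exact ZO.mk' 23 1 (hasOrd_prime (by norm_num) (by rw [hc]; norm_num)) hc d1 (by norm_num) (by norm_num)
  · intro n hn
    simp only [Finset.mem_insert, Finset.mem_singleton] at hn
    rcases hn with rfl | rfl | rfl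
    · exact ZO.mk' 5 1 (o15.of_dvd (by norm_num) (by norm_num)) hc d2 (by norm_num) (by norm_num)
    · exact ZO.mk' 5 1 o15 hc d2 (by norm_num) (by norm_num)
    · exact ZO.mk' 23 1 (hasOrd_prime (by norm_num) (by rw [hc]; norm_num)) hc d2 (by norm_num) (by norm_num)

/-- `M₂₄`: the characters of degrees 252 and 1771 -/
theorem m24 {S : Type} [Group S] (h : Cfsg.Spor.IsoM24 S) : RowT S := by
  have hG := Cfsg.Agent.H417.RecogMathieu.isM24 h
  have hcS : Nat.card S = 244823040 := hG.2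
  have : Finite S := Nat.finite_of_card_ne_zero (by rw [hcS]; norm_num)
  obtain ⟨e⟩ := h
  refine RowT.of_equiv e ?_
  have hG := Cfsg.Agent.H417.RecogMathieu.isM24 (X := M24) ⟨MulEquiv.refl _⟩
  have hc : Nat.card M24 = 244823040 := hG.2
  have : Finite M24 := Nat.finite_of_card_ne_zero (by rw [hc]; norm_num)
  have h5 : MulAction.IsMultiplyPretransitive M24 GolayPt 5 := Cfsg.Agent.S0366.result
  have hN : Nat.card GolayPt = 24 := by rw [Nat.card_eq_fintype_card]; decide
  have h4 : MulAction.IsMultiplyPretransitive M24 GolayPt 4 :=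
    MulAction.isMultiplyPretransitive_of_le (n := 5) (by norm_num) (by rw [hN]; norm_num)
  have := Fintype.ofFinite M24
  have i2 := H621.AltChar.irr_a (G := M24) (Ω := GolayPt) (by omega) h4
  let χ2 : IrrCharacter M24 := ⟨_, i2⟩
  have d1 : charDegree (χ2 : M24 → ℂ) = 252 := by
    refine charDegree_eq ?_
    show (((H621.AltChar.nf GolayPt (1 : M24) : ℕ) : ℂ) ^ 2 - 3 * ((H621.AltChar.nf GolayPt (1 : M24) : ℕ) : ℂ) +
      ((H621.AltChar.nu GolayPt (1 : M24) : ℕ) : ℂ)) / 2 = _
    rw [H621.AltChar.nf_one, H621.AltChar.nu_one, hN]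
    norm_num
  obtain ⟨χ, hχ⟩ := Cfsg.Agent.H417.DegMTwentyFour.mem_1771 hG
  have d2 : charDegree (χ : M24 → ℂ) = 1771 := hχ
  have o14 : HasOrd M24 14 := ord23_14.of_injective (Subgroup.inclusion fun g (hg : g ∈ Spor.M23) => hg.1)
    (Subgroup.inclusion_injective _)
  have o21 : HasOrd M24 21 := by
    obtain ⟨g, h1, -⟩ := exists_of_okM (P := 432402316300306875856481766676600211) (n := 21) (f := 0) (u := 0)
        (by decide +kernel)
    exact ⟨g, h1⟩
  refine rowT_of_deg (θ₁ := χ2) (θ₂ := χ) (by rw [d1, d2]; norm_num) {7, 14, 21} {7, 11, 23} ?_ ?_ (by decide)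
    (by decide)
  · intro n hn
    simp only [Finset.mem_insert, Finset.mem_singleton] at hn
    rcases hn with rfl | rfl | rfl
    · exact ZO.mk' 7 1 (o14.of_dvd (by norm_num) (by norm_num)) hc d1 (by norm_num) (by norm_num)
    · exact ZO.mk' 7 1 o14 hc d1 (by norm_num) (by norm_num)
    · exact ZO.mk' 7 1 o21 hc d1 (by norm_num) (by norm_num)
  · intro n hn
    simp only [Finset.mem_insert, Finset.mem_singleton] at hn
    rcases hn with rfl | rfl | rfl
    · exact ZO.mk' 7 1 (hasOrd_prime (by norm_num) (by rw [hc]; norm_num)) hc d2 (by norm_num) (by norm_num)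
    · exact ZO.mk' 11 1 (hasOrd_prime (by norm_num) (by rw [hc]; norm_num)) hc d2 (by norm_num) (by norm_num)
    · exact ZO.mk' 23 1 (hasOrd_prime (by norm_num) (by rw [hc]; norm_num)) hc d2 (by norm_num) (by norm_num)

/-! ### `M₁₂` -/

section Twelve

open Cfsg.Agent.H419.Spor.M12

local notation "D" => Spor.squareDodecad

theorem four_trans : MulAction.IsMultiplyPretransitive Spor.M12 Pts 4 := by
  have h5 : MulAction.IsMultiplyPretransitive Spor.M12 Pts 5 := by
    constructor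
    intro x y
    let x' : Fin 5 ↪ GolayPt := x.trans (Function.Embedding.subtype _)
    let y' : Fin 5 ↪ GolayPt := y.trans (Function.Embedding.subtype _)
    obtain ⟨g, hg, -⟩ := Cfsg.Agent.S0384.result D Cfsg.Agent.Schreier.MEleven.squareDodecad_mem x' y'
      (fun i => (x i).2) (fun i => (y i).2)
    refine ⟨⟨g.1.1, g.1.2, g.2⟩, ?_⟩
    apply DFunLike.ext
    intro i
    exact Subtype.ext (hg i)
  refine MulAction.isMultiplyPretransitive_of_le (n := 5) (by norm_num) ?_
  rw [Nat.card_eq_fintype_card]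
  decide +kernel

theorem card_pts : Nat.card Pts = 12 := by
  rw [Nat.card_eq_fintype_card]
  decide +kernel

theorem nf_eq (g : Spor.M12) : H621.AltChar.nf Pts g = H419.Spor.M12.fx g := H419.Spor.M12.card_fixed g

theorem x8_order : orderOf x8 = 8 := by
  have h1 : x8 ^ 8 = 1 := by
    apply Subtype.ext
    show w8 ^ 8 = 1
    apply Equiv.ext
    decide +kernel
  have h2 : x8 ^ 4 ≠ 1 := by
    intro h
    have h3 : w8 ^ 4 = 1 := congrArg Subtype.val h
    have h4 := Equiv.ext_iff.1 h3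
    revert h4
    decide +kernel
  have : orderOf x8 = 2 ^ (2 + 1) := by
    have : Fact (Nat.Prime 2) := ⟨Nat.prime_two⟩
    exact orderOf_eq_prime_pow (by norm_num; exact h2) (by norm_num; exact h1)
  rw [this]
  norm_num

/-- `M₁₂`: the characters of degrees 54 and 55 -/
theorem m12 {S : Type} [Group S] (h : Cfsg.Spor.IsoM12 S) : RowT S := by
  have hcS : Nat.card S = 95040 := Cfsg.Agent.NotCT.Orders.m12 h
  have : Finite S := Nat.finite_of_card_ne_zero (by rw [hcS]; norm_num)
  obtain ⟨e⟩ := h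
  refine RowT.of_equiv e ?_
  have hc : Nat.card Spor.M12 = 95040 := by rw [← hcS]; exact (Nat.card_congr e.toEquiv).symm
  have : Finite Spor.M12 := Nat.finite_of_card_ne_zero (by rw [hc]; norm_num)
  have := Fintype.ofFinite Spor.M12
  have hN := card_pts
  have i2 := H621.AltChar.irr_a (G := Spor.M12) (Ω := Pts) (by omega) four_trans
  have i3 := H621.AltChar.irr_b (G := Spor.M12) (Ω := Pts) (by omega) four_trans
  let χ2 : IrrCharacter Spor.M12 := ⟨_, i2⟩
  let χ3 : IrrCharacter Spor.M12 := ⟨_, i3⟩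
  have d2 : charDegree (χ2 : Spor.M12 → ℂ) = 54 := by
    refine charDegree_eq ?_
    show (((H621.AltChar.nf Pts (1 : Spor.M12) : ℕ) : ℂ) ^ 2 - 3 * ((H621.AltChar.nf Pts (1 : Spor.M12) : ℕ) : ℂ) +
      ((H621.AltChar.nu Pts (1 : Spor.M12) : ℕ) : ℂ)) / 2 = _
    rw [H621.AltChar.nf_one, H621.AltChar.nu_one, hN]
    norm_num
  have d3 : charDegree (χ3 : Spor.M12 → ℂ) = 55 := by
    refine charDegree_eq ?_
    show (((H621.AltChar.nf Pts (1 : Spor.M12) : ℕ) : ℂ) ^ 2 - 3 * ((H621.AltChar.nf Pts (1 : Spor.M12) : ℕ) : ℂ) + 2 -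
      ((H621.AltChar.nu Pts (1 : Spor.M12) : ℕ) : ℂ)) / 2 = _
    rw [H621.AltChar.nf_one, H621.AltChar.nu_one, hN]
    norm_num
  have zr : ∀ g : Spor.M12, H621.AltChar.nf Pts g * H621.AltChar.nf Pts g + H621.AltChar.nu Pts g =
      3 * H621.AltChar.nf Pts g → (χ2 : Spor.M12 → ℂ) g = 0 := by
    intro g hg
    show (((H621.AltChar.nf Pts g : ℕ) : ℂ) ^ 2 - 3 * ((H621.AltChar.nf Pts g : ℕ) : ℂ) +
      ((H621.AltChar.nu Pts g : ℕ) : ℂ)) / 2 = 0
    have b' : ((H621.AltChar.nf Pts g : ℕ) : ℂ) * ((H621.AltChar.nf Pts g : ℕ) : ℂ) +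
        ((H621.AltChar.nu Pts g : ℕ) : ℂ) = 3 * ((H621.AltChar.nf Pts g : ℕ) : ℂ) := by
      exact_mod_cast hg
    linear_combination b' / 2
  have o6 : HasOrd Spor.M12 6 := ⟨x6, x6_order⟩
  have o10 : HasOrd Spor.M12 10 := ⟨rep12 3, order_rep12 3⟩
  have hz3 : ∀ n ∈ ({3, 6} : Finset ℕ), ZO χ2 n := by
    intro n hn
    simp only [Finset.mem_insert, Finset.mem_singleton] at hn
    rcases hn with rfl | rfl
    · exact ZO.mk' 3 3 (o6.of_dvd (by norm_num) (by norm_num)) hc d2 (by norm_num) (by norm_num)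
    · exact ZO.mk' 3 3 o6 hc d2 (by norm_num) (by norm_num)
  have hz8 : ∀ φ : MulAut Spor.M12, (χ2 : Spor.M12 → ℂ) (φ x8) = 0 := by
    intro φ
    have hcl : IsClassFunction Spor.M12 (χ2 : Spor.M12 → ℂ) := isIrr_isClassFunction χ2.2
    rcases mem_or φ with ⟨m, rfl⟩ | ⟨m, rfl⟩
    · have h1 : (χ2 : Spor.M12 → ℂ) (MulAut.conj m x8) = (χ2 : Spor.M12 → ℂ) x8 := hcl x8 m
      rw [h1]
      apply zr
      have h2 := H621.AltChar.nf_mul_self (Ω := Pts) x8
      have h3 : H621.AltChar.nf Pts (x8 * x8) = 4 := by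
        rw [nf_eq]
        show H419.Spor.M12.fx (w8 * w8) = 4
        decide +kernel
      have h4 : H621.AltChar.nf Pts x8 = 2 := by
        rw [nf_eq]
        show H419.Spor.M12.fx w8 = 2
        decide +kernel
      rw [h3, h4] at h2
      rw [h4]
      omega
    · have h1 : (χ2 : Spor.M12 → ℂ) ((MulAut.conj m * bt) x8) = (χ2 : Spor.M12 → ℂ) (bt x8) := hcl (bt x8) m
      rw [h1]
      apply zr
      have h2 := H621.AltChar.nf_mul_self (Ω := Pts) (bt x8)
      have h3 : H621.AltChar.nf Pts (bt x8 * bt x8) = 0 := by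
        rw [nf_eq]
        show H419.Spor.M12.fx ((projInv * w8 * projInv⁻¹) * (projInv * w8 * projInv⁻¹)) = 0
        decide +kernel
      have h4 : H621.AltChar.nf Pts (bt x8) = 0 := by
        rw [nf_eq]
        show H419.Spor.M12.fx (projInv * w8 * projInv⁻¹) = 0
        decide +kernel
      rw [h3, h4] at h2
      rw [h4]
      omega
  have hz5 : ∀ n ∈ ({5, 10, 11} : Finset ℕ), ZO χ3 n := by
    intro n hn
    simp only [Finset.mem_insert, Finset.mem_singleton] at hn
    rcases hn with rfl | rfl | rfl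
    · exact ZO.mk' 5 1 (o10.of_dvd (by norm_num) (by norm_num)) hc d3 (by norm_num) (by norm_num)
    · exact ZO.mk' 5 1 o10 hc d3 (by norm_num) (by norm_num)
    · exact ZO.mk' 11 1 (hasOrd_prime (by norm_num) (by rw [hc]; norm_num)) hc d3 (by norm_num) (by norm_num)
  have key : ∀ (G : Type) [Group G] [Finite G] (N : Subgroup G) [N.Normal], N ≃* Spor.M12 → Two G := by
    classical
    intro G _ _ N _ e
    obtain ⟨a, ha⟩ := (hz3 3 (by simp)).1
    obtain ⟨b, hb⟩ := (hz3 6 (by simp)).1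
    obtain ⟨t, ht, htc, hto⟩ := autNC_of_orders {5, 10, 11} fun n hn => (hz5 n hn).1
    have hab : a ≠ b := by rintro rfl; omega
    have hax : a ≠ x8 := by rintro rfl; rw [x8_order] at ha; omega
    have hbx : b ≠ x8 := by rintro rfl; rw [x8_order] at hb; omega
    refine two_of_over N e (θ₁ := χ2) (θ₂ := χ3) ?_ {a, b, x8} t ?_ ht ?_
      (fun x hx φ => (hz5 _ (hto x hx)).zero rfl φ) ?_ htc.ge
    · intro φ h
      have h1 := charDegree_comp (χ := (χ2 : Spor.M12 → ℂ)) φ
      rw [← h, d2, d3] at h1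
      omega
    · intro g hg k hk φ hφ
      have h1 : orderOf g = orderOf k := by rw [← hφ, MulEquiv.orderOf_eq]
      simp only [Finset.mem_insert, Finset.mem_singleton] at hg hk
      rcases hg with rfl | rfl | rfl <;> rcases hk with rfl | rfl | rfl <;>
        first
        | rfl
        | (exfalso; simp only [ha, hb, x8_order] at h1; omega)
    · intro x hx φ
      simp only [Finset.mem_insert, Finset.mem_singleton] at hx
      rcases hx with rfl | rfl | rfl
      · exact (hz3 3 (by simp)).zero ha φ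
      · exact (hz3 6 (by simp)).zero hb φ
      · exact hz8 φ
    · rw [Finset.card_insert_of_notMem (by simp [hab, hax]), Finset.card_pair hbx]
  exact ⟨Or.inl (key _ ⊤ Subgroup.topEquiv), fun G _ _ N _ ⟨e⟩ _ _ _ => Or.inl (key G N e)⟩

end Twelve

end Cfsg.Agent.H279.TwoMathieu
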