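import Cfsg.Agent.H279.ZerosPSUExp

/-!
# S4895, row `PSU_n(2)`, `n ≥ 4`
-/

set_option autoImplicit false
set_option maxRecDepth 20000
open Cfsg

namespace Cfsg.Agent.H279.ZerosPSU2

open Matrix Cfsg.Agent.H92 Cfsg.Agent.H504.Zeros Cfsg.Agent.H279.ZerosTools Cfsg.Agent.H279.ZerosPSU
open Cfsg.Agent.LieClassical Cfsg.Agent.H674.SUTools Cfsg.Agent.H674.SUBlock
open Cfsg.Agent.H674.Explicit Cfsg.Agent.H674.ExplicitCases Cfsg.Agent.H674.TwelvePSU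

/-- nine elements of `SU_4(2)` -/
def M4 : Fin 9 → Matrix (Fin 4) (Fin 4) F4
  | 0 => !![⟨0, 0⟩, ⟨1, 0⟩, ⟨0, 0⟩, ⟨0, 0⟩; ⟨1, 0⟩, ⟨0, 0⟩, ⟨0, 0⟩, ⟨0, 0⟩; ⟨0, 0⟩, ⟨0, 0⟩, ⟨1, 0⟩, ⟨0, 0⟩; ⟨0, 0⟩, ⟨0, 0⟩, ⟨0, 0⟩, ⟨1, 0⟩]
  | 1 => !![⟨0, 0⟩, ⟨1, 0⟩, ⟨0, 0⟩, ⟨0, 0⟩; ⟨1, 0⟩, ⟨0, 0⟩, ⟨0, 0⟩, ⟨0, 0⟩; ⟨0, 0⟩, ⟨0, 0⟩, ⟨0, 0⟩, ⟨1, 0⟩; ⟨0, 0⟩, ⟨0, 0⟩, ⟨1, 0⟩, ⟨0, 0⟩]
  | 2 => !![⟨0, 1⟩, ⟨1, 0⟩, ⟨1, 0⟩, ⟨0, 0⟩; ⟨1, 0⟩, ⟨1, 0⟩, ⟨0, 1⟩, ⟨0, 0⟩; ⟨0, 1⟩, ⟨1, 1⟩, ⟨0, 1⟩, ⟨0, 0⟩; ⟨0, 0⟩, ⟨0, 0⟩, ⟨0, 0⟩, ⟨1, 0⟩]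
  | 3 => !![⟨0, 0⟩, ⟨1, 0⟩, ⟨0, 0⟩, ⟨0, 0⟩; ⟨0, 0⟩, ⟨0, 0⟩, ⟨1, 0⟩, ⟨0, 0⟩; ⟨0, 0⟩, ⟨0, 0⟩, ⟨0, 0⟩, ⟨1, 0⟩; ⟨1, 0⟩, ⟨0, 0⟩, ⟨0, 0⟩, ⟨0, 0⟩]
  | 4 => !![⟨0, 0⟩, ⟨0, 1⟩, ⟨0, 0⟩, ⟨0, 0⟩; ⟨0, 1⟩, ⟨0, 0⟩, ⟨0, 0⟩, ⟨0, 0⟩; ⟨0, 0⟩, ⟨0, 0⟩, ⟨0, 1⟩, ⟨0, 0⟩; ⟨0, 0⟩, ⟨0, 0⟩, ⟨0, 0⟩, ⟨1, 0⟩]
  | 5 => !![⟨0, 0⟩, ⟨1, 1⟩, ⟨0, 0⟩, ⟨0, 0⟩; ⟨1, 1⟩, ⟨0, 0⟩, ⟨0, 0⟩, ⟨0, 0⟩; ⟨0, 0⟩, ⟨0, 0⟩, ⟨1, 1⟩, ⟨0, 0⟩; ⟨0, 0⟩, ⟨0, 0⟩, ⟨0, 0⟩, ⟨1, 0⟩]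
  | 6 => !![⟨0, 0⟩, ⟨1, 0⟩, ⟨0, 0⟩, ⟨0, 0⟩; ⟨1, 0⟩, ⟨0, 0⟩, ⟨0, 0⟩, ⟨0, 0⟩; ⟨0, 0⟩, ⟨0, 0⟩, ⟨0, 1⟩, ⟨0, 0⟩; ⟨0, 0⟩, ⟨0, 0⟩, ⟨0, 0⟩, ⟨1, 1⟩]
  | 7 => !![⟨0, 0⟩, ⟨0, 1⟩, ⟨0, 0⟩, ⟨0, 0⟩; ⟨0, 1⟩, ⟨0, 0⟩, ⟨0, 0⟩, ⟨0, 0⟩; ⟨0, 0⟩, ⟨0, 0⟩, ⟨1, 1⟩, ⟨0, 0⟩; ⟨0, 0⟩, ⟨0, 0⟩, ⟨0, 0⟩, ⟨1, 1⟩]
  | 8 => !![⟨1, 1⟩, ⟨0, 1⟩, ⟨0, 1⟩, ⟨0, 0⟩; ⟨0, 1⟩, ⟨0, 1⟩, ⟨1, 1⟩, ⟨0, 0⟩; ⟨1, 1⟩, ⟨1, 0⟩, ⟨1, 1⟩, ⟨0, 0⟩; ⟨0, 0⟩, ⟨0, 0⟩, ⟨0, 0⟩, ⟨1, 0⟩]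

theorem good_M4 : ∀ i, good 2 (M4 i) = true := by decide +kernel

/-- their invariants -/
def lab4 : Fin 9 → F4 × List Bool :=
  ![(⟨0, 0⟩, [true, true, true]), (⟨0, 0⟩, [true, true, true]), (⟨0, 0⟩, [false, true, false]),
    (⟨0, 0⟩, [false, true, false]), (⟨1, 1⟩, [false, false, true]), (⟨0, 1⟩, [false, false, true]),
    (⟨1, 0⟩, [false, false, true]), (⟨0, 0⟩, [false, false, true]), (⟨1, 1⟩, [false, false, false])]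

theorem inv_M4 : ∀ i, inv [2, 4, 6] (M4 i) = lab4 i := by decide +kernel

theorem lab4_cases : ∀ i j, lab4 i = lab4 j → i = j ∨ (i = 0 ∧ j = 1) ∨ (i = 1 ∧ j = 0) ∨
    (i = 2 ∧ j = 3) ∨ (i = 3 ∧ j = 2) := by
  decide +kernel

theorem pow12_M4 : ∀ i, M4 i ^ 12 = 1 := by decide +kernel

theorem nsc_M4 : ∀ i, isSc (M4 i ^ 3) = false := by decide +kernel

theorem R1_M40 : R1 (M4 0 ^ 1 - 1) := ⟨![1, 1, 0, 0], ![1, 1, 0, 0], by decide +kernel⟩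

theorem nR1_M41 : ¬ R1 (M4 1 ^ 1 - 1) := not_R1 0 2 0 2 (by decide +kernel)

theorem R1_M42 : R1 (M4 2 ^ 2 - 1) := ⟨![1, 0, ⟨1, 1⟩, 0], ![1, 0, ⟨0, 1⟩, 0], by decide +kernel⟩

theorem nR1_M43 : ¬ R1 (M4 3 ^ 2 - 1) := not_R1 0 1 0 1 (by decide +kernel)

/-- nine elements of `SU_5(2)` -/
def M5 : Fin 9 → Matrix (Fin 5) (Fin 5) F4
  | 0 => !![⟨0, 0⟩, ⟨1, 0⟩, ⟨0, 0⟩, ⟨0, 0⟩, ⟨0, 0⟩; ⟨1, 0⟩, ⟨0, 0⟩, ⟨0, 0⟩, ⟨0, 0⟩, ⟨0, 0⟩; ⟨0, 0⟩, ⟨0, 0⟩, ⟨1, 0⟩, ⟨0, 0⟩, ⟨0, 0⟩; ⟨0, 0⟩, ⟨0, 0⟩, ⟨0, 0⟩, ⟨1, 0⟩, ⟨0, 0⟩; ⟨0, 0⟩, ⟨0, 0⟩, ⟨0, 0⟩, ⟨0, 0⟩, ⟨1, 0⟩]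
  | 1 => !![⟨0, 0⟩, ⟨1, 0⟩, ⟨0, 0⟩, ⟨0, 0⟩, ⟨0, 0⟩; ⟨1, 0⟩, ⟨0, 0⟩, ⟨0, 0⟩, ⟨0, 0⟩, ⟨0, 0⟩; ⟨0, 0⟩, ⟨0, 0⟩, ⟨0, 0⟩, ⟨1, 0⟩, ⟨0, 0⟩; ⟨0, 0⟩, ⟨0, 0⟩, ⟨1, 0⟩, ⟨0, 0⟩, ⟨0, 0⟩; ⟨0, 0⟩, ⟨0, 0⟩, ⟨0, 0⟩, ⟨0, 0⟩, ⟨1, 0⟩]
  | 2 => !![⟨0, 1⟩, ⟨1, 0⟩, ⟨1, 0⟩, ⟨0, 0⟩, ⟨0, 0⟩; ⟨1, 0⟩, ⟨1, 0⟩, ⟨0, 1⟩, ⟨0, 0⟩, ⟨0, 0⟩; ⟨0, 1⟩, ⟨1, 1⟩, ⟨0, 1⟩, ⟨0, 0⟩, ⟨0, 0⟩; ⟨0, 0⟩, ⟨0, 0⟩, ⟨0, 0⟩, ⟨1, 0⟩, ⟨0, 0⟩; ⟨0, 0⟩, ⟨0, 0⟩, ⟨0, 0⟩, ⟨0, 0⟩, ⟨1, 0⟩]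
  | 3 => !![⟨0, 0⟩, ⟨1, 0⟩, ⟨0, 0⟩, ⟨0, 0⟩, ⟨0, 0⟩; ⟨0, 0⟩, ⟨0, 0⟩, ⟨1, 0⟩, ⟨0, 0⟩, ⟨0, 0⟩; ⟨0, 0⟩, ⟨0, 0⟩, ⟨0, 0⟩, ⟨1, 0⟩, ⟨0, 0⟩; ⟨1, 0⟩, ⟨0, 0⟩, ⟨0, 0⟩, ⟨0, 0⟩, ⟨0, 0⟩; ⟨0, 0⟩, ⟨0, 0⟩, ⟨0, 0⟩, ⟨0, 0⟩, ⟨1, 0⟩]
  | 4 => !![⟨0, 0⟩, ⟨1, 0⟩, ⟨0, 0⟩, ⟨0, 0⟩, ⟨0, 0⟩; ⟨1, 0⟩, ⟨0, 0⟩, ⟨0, 0⟩, ⟨0, 0⟩, ⟨0, 0⟩; ⟨0, 0⟩, ⟨0, 0⟩, ⟨0, 1⟩, ⟨0, 0⟩, ⟨0, 0⟩; ⟨0, 0⟩, ⟨0, 0⟩, ⟨0, 0⟩, ⟨1, 1⟩, ⟨0, 0⟩; ⟨0, 0⟩, ⟨0, 0⟩, ⟨0, 0⟩, ⟨0, 0⟩, ⟨1, 0⟩]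
  | 5 => !![⟨0, 0⟩, ⟨1, 0⟩, ⟨0, 0⟩, ⟨0, 0⟩, ⟨0, 0⟩; ⟨1, 0⟩, ⟨0, 0⟩, ⟨0, 0⟩, ⟨0, 0⟩, ⟨0, 0⟩; ⟨0, 0⟩, ⟨0, 0⟩, ⟨0, 0⟩, ⟨0, 1⟩, ⟨0, 0⟩; ⟨0, 0⟩, ⟨0, 0⟩, ⟨0, 1⟩, ⟨0, 0⟩, ⟨0, 0⟩; ⟨0, 0⟩, ⟨0, 0⟩, ⟨0, 0⟩, ⟨0, 0⟩, ⟨0, 1⟩]
  | 6 => m8
  | 7 => m12
  | 8 => m18

/-- their orders -/
def ord5 : Fin 9 → ℕ := ![2, 2, 4, 4, 6, 6, 8, 12, 18]

theorem good_M5 : ∀ i, good 2 (M5 i) = true := by decide +kernel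

theorem ordIs_M5 : ∀ i : Fin 6, ordIs (M5 (Fin.castLE (by norm_num) i)) (ord5 (Fin.castLE (by norm_num) i)) = true := by
  decide +kernel

theorem ordIs_M5' (i : Fin 9) : ordIs (M5 i) (ord5 i) = true := by
  obtain ⟨o1, o2, o3, o4, o5⟩ := ord52
  fin_cases i
  · exact ordIs_M5 0
  · exact ordIs_M5 1
  · exact ordIs_M5 2
  · exact ordIs_M5 3
  · exact ordIs_M5 4
  · exact ordIs_M5 5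
  · exact o1
  · exact o3
  · exact o5

/-- a non-zero minor -/
def Mnr {n : ℕ} (N : Matrix (Fin n) (Fin n) F4) (i j k l : Fin n) : Prop := N i k * N j l ≠ N i l * N j k

theorem R1_M50 : R1 (M5 0 ^ 3 - 1) := ⟨![1, 1, 0, 0, 0], ![1, 1, 0, 0, 0], by decide +kernel⟩

theorem nR1_M51 : Mnr (M5 1 ^ 3 - 1) 0 2 0 2 := by
  unfold Mnr; decide +kernel

theorem R1_M52 : R1 (M5 2 ^ 6 - 1) := ⟨![1, 0, ⟨1, 1⟩, 0, 0], ![1, 0, ⟨0, 1⟩, 0, 0], by decide +kernel⟩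

theorem nR1_M53 : Mnr (M5 3 ^ 6 - 1) 0 1 0 1 := by
  unfold Mnr; decide +kernel

theorem R1_M54 : R1 (M5 4 ^ 9 - 1) := ⟨![1, 1, 0, 0, 0], ![1, 1, 0, 0, 0], by decide +kernel⟩

theorem nR1_M55 : Mnr (M5 5 ^ 9 - 1) 0 2 0 2 := by
  unfold Mnr; decide +kernel

theorem ord5_cases : ∀ i j, ord5 i = ord5 j → i = j ∨ (i = 0 ∧ j = 1) ∨ (i = 1 ∧ j = 0) ∨
    (i = 2 ∧ j = 3) ∨ (i = 3 ∧ j = 2) ∨ (i = 4 ∧ j = 5) ∨ (i = 5 ∧ j = 4) := by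
  decide

/-! ### `n = 4` -/

theorem conj4 {x y : Cfsg.SU 4 F4 2} {i j : Fin 9} (hx : cm x = M4 i) (hy : cm y = M4 j)
    (h : IsConj (pr x) (pr y)) : i = j := by
  have hcc : ∀ c : F4, c ^ 4 = 1 → c ^ (2 + 1) = 1 → c = 1 := fun c h1 h2 => by
    calc c = c ^ (2 + 1) * c := by rw [h2, one_mul]
      _ = 1 := by rw [← pow_succ, h1]
  obtain ⟨c, P, Q, hc4, hc3, h1, h2, hc⟩ := sim_of_pr h4 (by norm_num) h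
  rw [hcc c hc4 hc3, one_smul, hx, hy] at hc
  have h3 : inv [2, 4, 6] (M4 i) = inv [2, 4, 6] (M4 j) := by
    rw [hc, inv_conj _ _ _ _ h1 h2]
  rw [inv_M4, inv_M4] at h3
  have r1 : ∀ m : ℕ, R1 (M4 i ^ m - 1) → R1 (M4 j ^ m - 1) := fun m hm => by
    rw [← hx] at hm
    rw [← hy]
    exact R1_of_pr h4 (by norm_num) h (fun c h1 h2 => by rw [hcc c h1 h2, one_pow]) hm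
  have r2 : ∀ m : ℕ, R1 (M4 j ^ m - 1) → R1 (M4 i ^ m - 1) := fun m hm => by
    rw [← hy] at hm
    rw [← hx]
    exact R1_of_pr h4 (by norm_num) h.symm (fun c h1 h2 => by rw [hcc c h1 h2, one_pow]) hm
  rcases lab4_cases i j h3 with h5 | ⟨rfl, rfl⟩ | ⟨rfl, rfl⟩ | ⟨rfl, rfl⟩ | ⟨rfl, rfl⟩
  · exact h5
  · exact (nR1_M41 (r1 1 R1_M40)).elim
  · exact (nR1_M41 (r2 1 R1_M40)).elim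
  · exact (nR1_M43 (r1 2 R1_M42)).elim
  · exact (nR1_M43 (r2 2 R1_M42)).elim

theorem charP4 : CharP F4 2 := by
  have : Fact (Nat.Prime 2) := ⟨Nat.prime_two⟩
  refine charP_of_card_eq_prime_pow (f := 2) ?_
  exact h4

theorem big4 : Big (Cfsg.PSU 4 F4 2) := by
  have hs : IsSimpleGroup (Cfsg.PSU 4 F4 2) := S0283.result h4 _ (by norm_num) (by norm_num)
  have := charP4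
  choose x hx using fun i => exists_of_good h4 (good_M4 i)
  refine big_of_fam (p := 2) (by norm_num) (isLie (p := 2) h4 le_rfl) (fun i => pr (x i))
    (fun i j h => conj4 (hx i) (hx j) h) (fun i => ?_) (by simp)
  refine dvd_of_pow (a := 2) (m := 3) (by norm_num) ?_ (pr_pow_ne h4 (by norm_num) fun c hc => ?_)
  · rw [← map_pow]
    have h1 : x i ^ (2 ^ 2 * 3) = 1 := (cm_pow_eq_one_iff _ _).1 (by rw [hx]; exact pow12_M4 i)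
    rw [h1, map_one]
  · have h1 := nsc_M4 i
    rw [← hx, hc] at h1
    have h2 : isSc (c • (1 : Matrix (Fin 4) (Fin 4) F4)) = true := (isSc_iff _).2 ⟨c, rfl⟩
    rw [h2] at h1
    exact Bool.noConfusion h1

/-! ### `n ≥ 5` -/

theorem pr_ext_inj (k : ℕ) : Function.Injective
    ((pr : Cfsg.SU (5 + k) F4 2 →* Cfsg.PSU (5 + k) F4 2).comp (ext h4 k : Cfsg.SU 5 F4 2 →* _)) := by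
  rcases Nat.eq_zero_or_pos k with rfl | hk
  · rw [injective_iff_map_eq_one]
    intro x hx
    obtain ⟨c, hc1, hc2, h1⟩ := (SUBasic.mem_center_SU_iff h4 (by norm_num) _).1 ((pr_eq_one_iff _).1 hx)
    have hc : c = 1 := by
      calc c = (c ^ (2 + 1)) ^ 2 * c⁻¹ ^ 5 := by
            have hc0 : c ≠ 0 := by
              rintro rfl
              rw [zero_pow (by norm_num)] at hc1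
              exact zero_ne_one hc1
            field_simp
            ring
        _ = 1 := by
            rw [hc2, one_pow, one_mul, inv_pow, show c ^ 5 = 1 from hc1, inv_one]
    have h2 : blk (cm x) (1 : Matrix (Fin 0) (Fin 0) F4) = Matrix.diagonal (fun _ => c) := congrArg cm h1
    rw [hc] at h2
    have h5 : (Matrix.diagonal (fun _ => (1 : F4)) : Matrix (Fin (5 + 0)) (Fin (5 + 0)) F4) = 1 :=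
      Matrix.diagonal_one
    rw [h5, ← blk_one] at h2
    rw [← cm_eq_one_iff]
    exact (blk_inj h2).1
  · exact pr_ext_injective h4 (by omega) hk

theorem blk_pow_sub {k : ℕ} (A : Matrix (Fin 5) (Fin 5) F4) (m : ℕ) :
    blk A (1 : Matrix (Fin k) (Fin k) F4) ^ m - 1 = blk (A ^ m - 1) 0 := by
  have h1 : ∀ m : ℕ, blk A (1 : Matrix (Fin k) (Fin k) F4) ^ m = blk (A ^ m) 1 := by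
    intro m
    induction m with
    | zero => rw [pow_zero, pow_zero, blk_one]
    | succ m ih => rw [pow_succ, ih, ← blk_mul, one_mul, ← pow_succ]
  rw [h1, ← blk_one]
  unfold blk
  refine Matrix.ext fun i j => ?_
  simp only [Matrix.sub_apply, Matrix.reindex_apply, Matrix.submatrix_apply]
  rcases finSumFinEquiv.symm i with i | i <;> rcases finSumFinEquiv.symm j with j | j <;> simp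

theorem R1_blk {k : ℕ} {N : Matrix (Fin 5) (Fin 5) F4} (h : R1 N) : R1 (blk N (0 : Matrix (Fin k) (Fin k) F4)) := by
  obtain ⟨v, w, rfl⟩ := h
  refine ⟨fun i => Sum.elim v (0 : Fin k → F4) (finSumFinEquiv.symm i),
    fun i => Sum.elim w (0 : Fin k → F4) (finSumFinEquiv.symm i), ?_⟩
  unfold blk
  refine Matrix.ext fun i j => ?_
  simp only [Matrix.reindex_apply, Matrix.submatrix_apply, vecMulVec_apply]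
  rcases finSumFinEquiv.symm i with i | i <;> rcases finSumFinEquiv.symm j with j | j <;>
    simp [vecMulVec_apply]

theorem nR1_blk {k : ℕ} {N : Matrix (Fin 5) (Fin 5) F4} {i j a b : Fin 5} (h : Mnr N i j a b) :
    ¬ R1 (blk N (0 : Matrix (Fin k) (Fin k) F4)) := by
  refine not_R1 (Fin.castAdd k i) (Fin.castAdd k j) (Fin.castAdd k a) (Fin.castAdd k b) ?_
  rw [blk_castAdd, blk_castAdd, blk_castAdd, blk_castAdd]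
  exact h

theorem conj5 {k : ℕ} {x y : Cfsg.SU 5 F4 2} {i j : Fin 9} (hx : cm x = M5 i) (hy : cm y = M5 j)
    (hxo : orderOf x = ord5 i) (hyo : orderOf y = ord5 j)
    (h : IsConj (pr (ext h4 k x)) (pr (ext h4 k y))) : i = j := by
  have h1 : ord5 i = ord5 j := by
    have h2 := KTools.orderOf_eq_of_isConj h
    have h3 : ∀ z : Cfsg.SU 5 F4 2, orderOf (pr (ext h4 k z)) = orderOf z := fun z =>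
      orderOf_injective _ (pr_ext_inj k) z
    rw [h3, h3] at h2
    rw [← hxo, ← hyo, h2]
  have hcc : ∀ (m : ℕ) (c : F4), c ^ (5 + k) = 1 → c ^ (2 + 1) = 1 → c ^ (3 * m) = 1 := fun m c _ h2 => by
    rw [pow_mul]
    have h3 : c ^ 3 = 1 := h2
    rw [h3, one_pow]
  have r1 : ∀ m : ℕ, R1 (M5 i ^ (3 * m) - 1) → R1 (blk (M5 j ^ (3 * m) - 1) (0 : Matrix (Fin k) (Fin k) F4)) := by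
    intro m hm
    have h2 := R1_of_pr h4 (by omega) h (hcc m) (by
      rw [cm_ext, hx, blk_pow_sub]
      exact R1_blk hm)
    rwa [cm_ext, hy, blk_pow_sub] at h2
  have r2 : ∀ m : ℕ, R1 (M5 j ^ (3 * m) - 1) → R1 (blk (M5 i ^ (3 * m) - 1) (0 : Matrix (Fin k) (Fin k) F4)) := by
    intro m hm
    have h2 := R1_of_pr h4 (by omega) h.symm (hcc m) (by
      rw [cm_ext, hy, blk_pow_sub]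
      exact R1_blk hm)
    rwa [cm_ext, hx, blk_pow_sub] at h2
  rcases ord5_cases i j h1 with h5 | ⟨rfl, rfl⟩ | ⟨rfl, rfl⟩ | ⟨rfl, rfl⟩ | ⟨rfl, rfl⟩ | ⟨rfl, rfl⟩ | ⟨rfl, rfl⟩
  · exact h5
  · exact (nR1_blk nR1_M51 (r1 1 R1_M50)).elim
  · exact (nR1_blk nR1_M51 (r2 1 R1_M50)).elim
  · exact (nR1_blk nR1_M53 (r1 2 R1_M52)).elim
  · exact (nR1_blk nR1_M53 (r2 2 R1_M52)).elim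
  · exact (nR1_blk nR1_M55 (r1 3 R1_M54)).elim
  · exact (nR1_blk nR1_M55 (r2 3 R1_M54)).elim

theorem ord_of {n : ℕ} {M : Matrix (Fin n) (Fin n) F4} {N : ℕ} (hN : 0 < N) (h2 : ordIs M N = true) :
    orderOf M = N := by
  rw [ordIs, Bool.and_eq_true, decide_eq_true_eq, decide_eq_true_eq] at h2
  rw [orderOf_eq_iff hN]
  exact h2

theorem ord5_pos : ∀ i, 0 < ord5 i ∧ 2 ∣ ord5 i := by decide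

theorem big5 (k : ℕ) : Big (Cfsg.PSU (5 + k) F4 2) := by
  have hs : IsSimpleGroup (Cfsg.PSU (5 + k) F4 2) := S0283.result h4 _ (by omega) (by omega)
  have := charP4
  choose x hx using fun i => exists_of_good h4 (good_M5 i)
  have ho : ∀ i, orderOf (x i) = ord5 i := fun i => by
    rw [← orderOf_cm, hx, ord_of (ord5_pos i).1 (ordIs_M5' i)]
  refine big_of_fam (p := 2) (by norm_num) (isLie (p := 2) h4 (by omega)) (fun i => pr (ext h4 k (x i)))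
    (fun i j h => conj5 (hx i) (hx j) (ho i) (ho j) h) (fun i => ?_) (by simp)
  have h3 : orderOf (pr (ext h4 k (x i))) = orderOf (x i) := orderOf_injective _ (pr_ext_inj k) (x i)
  rw [h3, ho]
  exact (ord5_pos i).2

/-- `PSU_n(2)`, `n ≥ 4` -/
theorem big_psu2 {F : Type} [Field F] [Fintype F] (hF : Fintype.card F = 2 ^ 2) {n : ℕ} (hn : 4 ≤ n) :
    Big (Cfsg.PSU n F 2) := by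
  refine Big.of_equiv (FieldTransfer.psuCongr n 2 (FiniteField.ringEquivOfCardEq (hF.trans h4.symm))) ?_
  rcases Nat.eq_or_lt_of_le hn with rfl | hn
  · exact big4
  · obtain ⟨k, rfl⟩ := Nat.exists_eq_add_of_le hn
    exact big5 k

end Cfsg.Agent.H279.ZerosPSU2
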