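import Cfsg.Agent.H279.ZerosPSUExp

/-!
# S4895, row `PSU_4(3)`

The class of regular unipotent elements of `GU_4(3)` splits into four classes of `SU_4(3)`.
-/

set_option autoImplicit false
set_option maxRecDepth 20000
open Cfsg

namespace Cfsg.Agent.H279.ZerosPSU43

open Matrix Cfsg.Agent.H504.Zeros Cfsg.Agent.H279.ZerosTools Cfsg.Agent.H279.ZerosPSU
open Cfsg.Agent.LieClassical Cfsg.Agent.H674.SUTools Cfsg.Agent.H674.SUBlock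
open Cfsg.Agent.H674.Explicit Cfsg.Agent.H674.ExplicitCases Cfsg.Agent.H674.TwelvePSU

/-- a regular unipotent element -/
def X9 : Matrix (Fin 4) (Fin 4) F9 :=
  !![⟨0, 0⟩, ⟨2, 1⟩, ⟨0, 1⟩, ⟨0, 1⟩; ⟨0, 0⟩, ⟨0, 0⟩, ⟨1, 1⟩, ⟨2, 2⟩; ⟨1, 0⟩, ⟨0, 0⟩, ⟨0, 0⟩, ⟨0, 0⟩; ⟨0, 0⟩, ⟨2, 2⟩, ⟨1, 0⟩, ⟨1, 0⟩]

/-- its Jordan basis -/
def B : Matrix (Fin 4) (Fin 4) F9 :=
  !![⟨2, 1⟩, ⟨2, 2⟩, ⟨0, 1⟩, ⟨0, 0⟩; ⟨0, 1⟩, ⟨1, 1⟩, ⟨2, 2⟩, ⟨0, 0⟩; ⟨2, 1⟩, ⟨0, 1⟩, ⟨0, 0⟩, ⟨0, 0⟩; ⟨0, 2⟩, ⟨0, 2⟩, ⟨0, 0⟩, ⟨1, 0⟩]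

def Bi : Matrix (Fin 4) (Fin 4) F9 :=
  !![⟨2, 1⟩, ⟨2, 0⟩, ⟨1, 1⟩, ⟨0, 0⟩; ⟨2, 0⟩, ⟨1, 1⟩, ⟨0, 0⟩, ⟨0, 0⟩; ⟨1, 0⟩, ⟨0, 1⟩, ⟨0, 1⟩, ⟨0, 0⟩; ⟨2, 1⟩, ⟨2, 0⟩, ⟨2, 1⟩, ⟨1, 0⟩]

def U : Matrix (Fin 4) (Fin 4) F9 := !![1, 1, 0, 0; 0, 1, 1, 0; 0, 0, 1, 1; 0, 0, 0, 1]

def G : Matrix (Fin 4) (Fin 4) F9 :=
  !![0, 0, 0, ⟨0, 2⟩; 0, 0, ⟨0, 1⟩, ⟨0, 2⟩; 0, ⟨0, 2⟩, 0, 0; ⟨0, 1⟩, ⟨0, 1⟩, 0, ⟨1, 0⟩]

theorem hB : B * Bi = 1 := by decide +kernel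
theorem hBi : Bi * B = 1 := by decide +kernel
theorem hU : Bi * X9 * B = U := by decide +kernel
theorem hG' : Bᵀ * B.map (fun x => x ^ 3) = G := by decide +kernel
theorem hG : Bᵀ * B.map (GUOrder.frob h9) = G := hG'

theorem det_one_of_comm {z : Matrix (Fin 4) (Fin 4) F9} (h1 : zᵀ * z.map (GUOrder.frob h9) = 1)
    (h2 : z * X9 = X9 * z) : z.det = 1 := by
  obtain ⟨w, hw⟩ : ∃ w, w = Bi * z * B := ⟨_, rfl⟩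
  have hwz : z = B * w * Bi := by
    rw [hw]
    calc z = (B * Bi) * z * (B * Bi) := by rw [hB, one_mul, mul_one]
      _ = _ := by simp only [mul_assoc]
  have hwU : w * U = U * w := by
    rw [hw, ← hU]
    calc Bi * z * B * (Bi * X9 * B) = Bi * (z * ((B * Bi) * X9)) * B := by simp only [mul_assoc]
      _ = Bi * (X9 * ((B * Bi) * z)) * B := by rw [hB, one_mul, one_mul, h2]
      _ = _ := by simp only [mul_assoc]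
  have hdet : z.det = w.det := by
    rw [hwz, Matrix.det_mul, Matrix.det_mul, mul_right_comm, ← Matrix.det_mul, hB, Matrix.det_one, one_mul]
  have hwG : wᵀ * G * w.map (GUOrder.frob h9) = G := by
    have h3 : w.map (GUOrder.frob h9) = Bi.map (GUOrder.frob h9) * z.map (GUOrder.frob h9) *
        B.map (GUOrder.frob h9) := by
      rw [hw, Matrix.map_mul, Matrix.map_mul]
    have h4 : Biᵀ * Bᵀ = 1 := by rw [← Matrix.transpose_mul, hB, Matrix.transpose_one]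
    have h5 : B.map (GUOrder.frob h9) * Bi.map (GUOrder.frob h9) = 1 := by
      rw [← Matrix.map_mul, hB, Matrix.map_one _ (map_zero _) (map_one _)]
    rw [h3, hw, Matrix.transpose_mul, Matrix.transpose_mul, ← hG]
    calc Bᵀ * (zᵀ * Biᵀ) * (Bᵀ * B.map (GUOrder.frob h9)) * (Bi.map (GUOrder.frob h9) *
          z.map (GUOrder.frob h9) * B.map (GUOrder.frob h9)) =
        Bᵀ * (zᵀ * ((Biᵀ * Bᵀ) * ((B.map (GUOrder.frob h9) * Bi.map (GUOrder.frob h9)) *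
          z.map (GUOrder.frob h9)))) * B.map (GUOrder.frob h9) := by simp only [mul_assoc]
      _ = _ := by rw [h4, h5, one_mul, one_mul, h1, mul_one]
  have e : ∀ i j, (w * U) i j = (U * w) i j := fun i j => by rw [hwU]
  have e00 := e 0 0
  have e10 := e 1 0
  have e20 := e 2 0
  have e30 := e 3 0
  have e01 := e 0 1
  have e11 := e 1 1
  have e21 := e 2 1
  have e31 := e 3 1
  have e02 := e 0 2
  have e12 := e 1 2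
  have e22 := e 2 2
  have e32 := e 3 2
  have e03 := e 0 3
  have e13 := e 1 3
  have e23 := e 2 3
  have e33 := e 3 3
  simp [Matrix.mul_apply, Fin.sum_univ_four, U] at e00 e10 e20 e30 e01 e11 e21 e31 e02 e12 e22 e32 e03 e13 e23 e33
  have f10 : w 1 0 = 0 := e00
  have f20 : w 2 0 = 0 := e10
  have f30 : w 3 0 = 0 := e20
  have f31 : w 3 1 = 0 := e32
  have f32 : w 3 2 = 0 := e33
  have f21 : w 2 1 = 0 := by linear_combination f10 - e11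
  have f11 : w 1 1 = w 0 0 := by linear_combination -e01
  have f22 : w 2 2 = w 0 0 := by linear_combination -e01 - e12
  have f33 : w 3 3 = w 0 0 := by linear_combination -e01 - e12 - e23
  have htri : w.BlockTriangular id := by
    intro i j hij
    fin_cases i <;> fin_cases j <;> first | exact f10 | exact f20 | exact f30 | exact f21 | exact f31 | exact f32 | exact absurd hij (by decide)
  have hd : w.det = w 0 0 ^ 4 := by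
    rw [Matrix.det_of_upperTriangular htri, Fin.prod_univ_four, f11, f22, f33]
    ring
  have hg := congrFun (congrFun hwG 0) 3
  have hg2 : (wᵀ * G * w.map (GUOrder.frob h9)) 0 3 = w 0 0 * (⟨0, 2⟩ : F9) * w 0 0 ^ 3 := by
    simp only [Matrix.mul_apply, Fin.sum_univ_four, Matrix.transpose_apply, f10, f20, f30, Matrix.map_apply,
      GUOrder.frob_apply, f33]
    simp [G]
  rw [hg2] at hg
  have hg3 : (⟨0, 2⟩ : F9) * w 0 0 ^ 4 = (⟨0, 2⟩ : F9) * 1 := by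
    have hg4 : G 0 3 = (⟨0, 2⟩ : F9) := rfl
    rw [hg4] at hg
    rw [mul_one]
    calc (⟨0, 2⟩ : F9) * w 0 0 ^ 4 = w 0 0 * (⟨0, 2⟩ : F9) * w 0 0 ^ 3 := by ring
      _ = _ := hg
  have h02 : (⟨0, 2⟩ : F9) ≠ 0 := by decide
  rw [hdet, hd]
  exact mul_left_cancel₀ h02 hg3

/-- four diagonal matrices -/
def D : Fin 4 → Matrix (Fin 4) (Fin 4) F9
  | 0 => !![⟨1, 0⟩, ⟨0, 0⟩, ⟨0, 0⟩, ⟨0, 0⟩; ⟨0, 0⟩, ⟨1, 0⟩, ⟨0, 0⟩, ⟨0, 0⟩; ⟨0, 0⟩, ⟨0, 0⟩, ⟨1, 0⟩, ⟨0, 0⟩; ⟨0, 0⟩, ⟨0, 0⟩, ⟨0, 0⟩, ⟨1, 0⟩]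
  | 1 => !![⟨0, 1⟩, ⟨0, 0⟩, ⟨0, 0⟩, ⟨0, 0⟩; ⟨0, 0⟩, ⟨1, 0⟩, ⟨0, 0⟩, ⟨0, 0⟩; ⟨0, 0⟩, ⟨0, 0⟩, ⟨1, 0⟩, ⟨0, 0⟩; ⟨0, 0⟩, ⟨0, 0⟩, ⟨0, 0⟩, ⟨1, 0⟩]
  | 2 => !![⟨2, 0⟩, ⟨0, 0⟩, ⟨0, 0⟩, ⟨0, 0⟩; ⟨0, 0⟩, ⟨1, 0⟩, ⟨0, 0⟩, ⟨0, 0⟩; ⟨0, 0⟩, ⟨0, 0⟩, ⟨1, 0⟩, ⟨0, 0⟩; ⟨0, 0⟩, ⟨0, 0⟩, ⟨0, 0⟩, ⟨1, 0⟩]
  | 3 => !![⟨0, 2⟩, ⟨0, 0⟩, ⟨0, 0⟩, ⟨0, 0⟩; ⟨0, 0⟩, ⟨1, 0⟩, ⟨0, 0⟩, ⟨0, 0⟩; ⟨0, 0⟩, ⟨0, 0⟩, ⟨1, 0⟩, ⟨0, 0⟩; ⟨0, 0⟩, ⟨0, 0⟩, ⟨0, 0⟩, ⟨1, 0⟩]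

/-- their inverses -/
def Di : Fin 4 → Matrix (Fin 4) (Fin 4) F9
  | 0 => D 0
  | 1 => D 3
  | 2 => D 2
  | 3 => D 1

/-- four conjugates under `GU_4(3)` -/
def gg : Fin 4 → Matrix (Fin 4) (Fin 4) F9
  | 0 => !![⟨0, 0⟩, ⟨2, 1⟩, ⟨0, 1⟩, ⟨0, 1⟩; ⟨0, 0⟩, ⟨0, 0⟩, ⟨1, 1⟩, ⟨2, 2⟩; ⟨1, 0⟩, ⟨0, 0⟩, ⟨0, 0⟩, ⟨0, 0⟩; ⟨0, 0⟩, ⟨2, 2⟩, ⟨1, 0⟩, ⟨1, 0⟩]
  | 1 => !![⟨0, 0⟩, ⟨2, 2⟩, ⟨2, 0⟩, ⟨2, 0⟩; ⟨0, 0⟩, ⟨0, 0⟩, ⟨1, 1⟩, ⟨2, 2⟩; ⟨0, 2⟩, ⟨0, 0⟩, ⟨0, 0⟩, ⟨0, 0⟩; ⟨0, 0⟩, ⟨2, 2⟩, ⟨1, 0⟩, ⟨1, 0⟩]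
  | 2 => !![⟨0, 0⟩, ⟨1, 2⟩, ⟨0, 2⟩, ⟨0, 2⟩; ⟨0, 0⟩, ⟨0, 0⟩, ⟨1, 1⟩, ⟨2, 2⟩; ⟨2, 0⟩, ⟨0, 0⟩, ⟨0, 0⟩, ⟨0, 0⟩; ⟨0, 0⟩, ⟨2, 2⟩, ⟨1, 0⟩, ⟨1, 0⟩]
  | 3 => !![⟨0, 0⟩, ⟨1, 1⟩, ⟨1, 0⟩, ⟨1, 0⟩; ⟨0, 0⟩, ⟨0, 0⟩, ⟨1, 1⟩, ⟨2, 2⟩; ⟨0, 1⟩, ⟨0, 0⟩, ⟨0, 0⟩, ⟨0, 0⟩; ⟨0, 0⟩, ⟨2, 2⟩, ⟨1, 0⟩, ⟨1, 0⟩]

theorem gg_eq (a : Fin 4) : gg a = D a * X9 * Di a := by
  revert a; decide +kernel

/-- the other elements -/
def ff : Fin 5 → Matrix (Fin 4) (Fin 4) F9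
  | 0 => !![⟨1, 1⟩, ⟨1, 1⟩, ⟨0, 0⟩, ⟨0, 0⟩; ⟨2, 1⟩, ⟨1, 2⟩, ⟨0, 0⟩, ⟨0, 0⟩; ⟨0, 0⟩, ⟨0, 0⟩, ⟨1, 0⟩, ⟨0, 0⟩; ⟨0, 0⟩, ⟨0, 0⟩, ⟨0, 0⟩, ⟨1, 0⟩]
  | 1 => !![⟨1, 1⟩, ⟨1, 1⟩, ⟨0, 0⟩, ⟨0, 0⟩; ⟨2, 1⟩, ⟨1, 2⟩, ⟨0, 0⟩, ⟨0, 0⟩; ⟨0, 0⟩, ⟨0, 0⟩, ⟨1, 1⟩, ⟨1, 1⟩; ⟨0, 0⟩, ⟨0, 0⟩, ⟨2, 1⟩, ⟨1, 2⟩]
  | 2 => !![⟨0, 0⟩, ⟨1, 0⟩, ⟨0, 0⟩, ⟨0, 0⟩; ⟨0, 0⟩, ⟨0, 0⟩, ⟨1, 0⟩, ⟨0, 0⟩; ⟨1, 0⟩, ⟨0, 0⟩, ⟨0, 0⟩, ⟨0, 0⟩; ⟨0, 0⟩, ⟨0, 0⟩, ⟨0, 0⟩, ⟨1, 0⟩]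
  | 3 => !![⟨1, 1⟩, ⟨1, 1⟩, ⟨0, 0⟩, ⟨0, 0⟩; ⟨2, 1⟩, ⟨1, 2⟩, ⟨0, 0⟩, ⟨0, 0⟩; ⟨0, 0⟩, ⟨0, 0⟩, ⟨2, 0⟩, ⟨0, 0⟩; ⟨0, 0⟩, ⟨0, 0⟩, ⟨0, 0⟩, ⟨2, 0⟩]
  | 4 => !![⟨1, 1⟩, ⟨1, 1⟩, ⟨0, 0⟩, ⟨0, 0⟩; ⟨2, 1⟩, ⟨1, 2⟩, ⟨0, 0⟩, ⟨0, 0⟩; ⟨0, 0⟩, ⟨0, 0⟩, ⟨0, 1⟩, ⟨0, 0⟩; ⟨0, 0⟩, ⟨0, 0⟩, ⟨0, 0⟩, ⟨0, 2⟩]

/-- all nine -/
def M : Fin 5 ⊕ Fin 4 → Matrix (Fin 4) (Fin 4) F9 := Sum.elim ff gg

theorem good_M : ∀ i, good 3 (M i) = true := by decide +kernel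

/-- invariants -/
def lab : Fin 5 ⊕ Fin 4 → List Bool :=
  Sum.elim ![[true, true, true], [true, true, true], [true, true, true], [false, true, false],
    [false, false, false]] (fun _ => [false, false, true])

theorem exps_M : ∀ i, exps [3, 6, 9] (M i) = lab i := by decide +kernel

theorem lab_cases : ∀ i j, lab i = lab j →
    i = j ∨ (∃ a b : Fin 3, i = Sum.inl (Fin.castLE (by norm_num) a) ∧ j = Sum.inl (Fin.castLE (by norm_num) b)) ∨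
      (∃ a b : Fin 4, i = Sum.inr a ∧ j = Sum.inr b) := by
  decide

theorem nsc_M : ∀ i, isSc (M i ^ 4) = false := by decide +kernel

theorem cube_ff (a : Fin 3) : ff (Fin.castLE (by norm_num) a) ^ 3 = 1 := by
  revert a; decide +kernel

theorem nine_gg (a : Fin 4) : gg a ^ 9 = 1 := by
  revert a; decide +kernel

theorem ff0 : ff 0 - 1 = vecMulVec ![⟨0, 1⟩, ⟨2, 1⟩, 0, 0] ![1, ⟨1, 2⟩, 0, 0] := by decide +kernel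

theorem R1_ff0 : R1 (ff 0 - 1) := ⟨_, _, ff0⟩

theorem nR1_ff1 : ¬ R1 (ff 1 - 1) := not_R1 0 2 0 2 (by decide +kernel)

theorem nR1_ff2 : ¬ R1 (ff 2 - 1) := not_R1 0 1 0 1 (by decide +kernel)

theorem sq_ff1 : (ff 1 - 1) * (ff 1 - 1) = 0 := by decide +kernel

theorem sq_ff2 : (ff 2 - 1) * (ff 2 - 1) ≠ 0 := by decide +kernel

theorem D_mul (a : Fin 4) : D a * Di a = 1 := by
  revert a; decide +kernel

theorem Di_mul (a : Fin 4) : Di a * D a = 1 := by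
  revert a; decide +kernel

theorem isom_D' (a : Fin 4) : (D a)ᵀ * (D a).map (fun x => x ^ 3) = 1 := by
  revert a; decide +kernel

theorem isom_Di' (a : Fin 4) : (Di a)ᵀ * (Di a).map (fun x => x ^ 3) = 1 := by
  revert a; decide +kernel

theorem det_D : ∀ a b : Fin 4, (D a).det * (Di b).det = 1 → a = b := by
  decide +kernel

theorem six_ff3 : ff 3 ^ 6 = 1 := by decide +kernel

theorem twelve_ff4 : ff 4 ^ 12 = 1 := by decide +kernel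

theorem pow36 : ∀ i, M i ^ 36 = 1 := by
  have h3 : ∀ A : Matrix (Fin 4) (Fin 4) F9, A ^ 3 = 1 → A ^ 36 = 1 := fun A h => by
    rw [show 36 = 3 * 12 by norm_num, pow_mul, h, one_pow]
  rintro (a | a)
  · fin_cases a
    · exact h3 _ (cube_ff 0)
    · exact h3 _ (cube_ff 1)
    · exact h3 _ (cube_ff 2)
    · show ff 3 ^ 36 = 1
      rw [show 36 = 6 * 6 by norm_num, pow_mul, six_ff3, one_pow]
    · show ff 4 ^ 36 = 1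
      rw [show 36 = 12 * 3 by norm_num, pow_mul, twelve_ff4, one_pow]
  · show gg a ^ 36 = 1
    rw [show 36 = 9 * 4 by norm_num, pow_mul, nine_gg, one_pow]

/-- the elements of `SU_4(3)` -/
theorem exists_el (i : Fin 5 ⊕ Fin 4) : ∃ x : Cfsg.SU 4 F9 3, cm x = M i := exists_of_good h9 (good_M i)

theorem c_eq_one {c : F9} (h4 : c ^ 4 = 1) {k : ℕ} (hk : k = 3 ∨ k = 9) (h : c ^ k = 1) : c = 1 := by
  rcases hk with rfl | rfl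
  · calc c = c ^ 3 * c := by rw [h, one_mul]
      _ = 1 := by rw [← pow_succ, h4]
  · calc c = (c ^ 4) ^ 2 * c := by rw [h4, one_pow, one_mul]
      _ = 1 := by rw [← pow_mul, ← pow_succ, h]

theorem conj_cases {x y : Cfsg.SU 4 F9 3} {i j : Fin 5 ⊕ Fin 4} (hx : cm x = M i) (hy : cm y = M j)
    (h : IsConj (pr x) (pr y)) : i = j := by
  obtain ⟨c, g, hc4, -, hc⟩ := sim_of_pr' h9 (by norm_num) h
  have hc0 : c ≠ 0 := by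
    rintro rfl
    rw [zero_pow (by norm_num)] at hc4
    exact zero_ne_one hc4
  have h1 : cm g * cm g⁻¹ = 1 := by rw [← map_mul, mul_inv_cancel, map_one]
  have h2 : cm g⁻¹ * cm g = 1 := by rw [← map_mul, inv_mul_cancel, map_one]
  rw [hx, hy] at hc
  have h3 : exps [3, 6, 9] (M i) = exps [3, 6, 9] (M j) := by
    rw [hc, exps_smul _ hc0, exps_conj _ h1 h2]
  rw [exps_M, exps_M] at h3
  have hone : ∀ k : ℕ, k = 3 ∨ k = 9 → M i ^ k = 1 → M j ^ k = 1 → c = 1 := by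
    intro k hk h5 h6
    rw [hc, smul_pow, conj_pow3 h1 h2, h5, mul_one, h1] at h6
    have h7 := congrFun (congrFun h6 0) 0
    rw [Matrix.smul_apply, Matrix.one_apply_eq, smul_eq_mul, mul_one] at h7
    exact c_eq_one hc4 hk h7
  rcases lab_cases i j h3 with h4 | ⟨a, b, rfl, rfl⟩ | ⟨a, b, rfl, rfl⟩
  · exact h4
  · have hc1 := hone 3 (Or.inl rfl) (cube_ff a) (cube_ff b)
    rw [hc1, one_smul] at hc
    have h5 : ff (Fin.castLE (by norm_num) b) = cm g * ff (Fin.castLE (by norm_num) a) * cm g⁻¹ := hc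
    have h6 : ff (Fin.castLE (by norm_num) b) - 1 = cm g * (ff (Fin.castLE (by norm_num) a) - 1) * cm g⁻¹ := by
      rw [h5, mul_sub, sub_mul, mul_one, h1]
    have h6' : ff (Fin.castLE (by norm_num) a) - 1 = cm g⁻¹ * (ff (Fin.castLE (by norm_num) b) - 1) * cm g := by
      rw [h6]
      calc ff (Fin.castLE (by norm_num) a) - 1 = (cm g⁻¹ * cm g) * (ff (Fin.castLE (by norm_num) a) - 1) *
            (cm g⁻¹ * cm g) := by rw [h2, one_mul, mul_one]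
        _ = _ := by simp only [mul_assoc]
    have r1 : R1 (ff (Fin.castLE (by norm_num) a) - 1) → R1 (ff (Fin.castLE (by norm_num) b) - 1) := fun h7 => by
      rw [h6]; exact h7.conj _ _
    have r1' : R1 (ff (Fin.castLE (by norm_num) b) - 1) → R1 (ff (Fin.castLE (by norm_num) a) - 1) := fun h7 => by
      rw [h6']; exact h7.conj _ _
    have s1 : (ff (Fin.castLE (by norm_num) a) - 1) * (ff (Fin.castLE (by norm_num) a) - 1) = 0 →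
        (ff (Fin.castLE (by norm_num) b) - 1) * (ff (Fin.castLE (by norm_num) b) - 1) = 0 := fun h7 => by
      rw [h6]
      calc _ = cm g * ((ff (Fin.castLE (by norm_num) a) - 1) * ((cm g⁻¹ * cm g) *
            (ff (Fin.castLE (by norm_num) a) - 1))) * cm g⁻¹ := by simp only [mul_assoc]
        _ = 0 := by rw [h2, one_mul, h7, mul_zero, zero_mul]
    have s1' : (ff (Fin.castLE (by norm_num) b) - 1) * (ff (Fin.castLE (by norm_num) b) - 1) = 0 →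
        (ff (Fin.castLE (by norm_num) a) - 1) * (ff (Fin.castLE (by norm_num) a) - 1) = 0 := fun h7 => by
      rw [h6']
      calc _ = cm g⁻¹ * ((ff (Fin.castLE (by norm_num) b) - 1) * ((cm g * cm g⁻¹) *
            (ff (Fin.castLE (by norm_num) b) - 1))) * cm g := by simp only [mul_assoc]
        _ = 0 := by rw [h1, one_mul, h7, mul_zero, zero_mul]
    clear h6' h6 h5 hc h3 hx hy hone
    fin_cases a <;> fin_cases b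
    · rfl
    · exact (nR1_ff1 (r1 R1_ff0)).elim
    · exact (nR1_ff2 (r1 R1_ff0)).elim
    · exact (nR1_ff1 (r1' R1_ff0)).elim
    · rfl
    · exact (sq_ff2 (s1 sq_ff1)).elim
    · exact (nR1_ff2 (r1' R1_ff0)).elim
    · exact (sq_ff2 (s1' sq_ff1)).elim
    · rfl
  · have hc1 := hone 9 (Or.inr rfl) (nine_gg a) (nine_gg b)
    rw [hc1, one_smul] at hc
    have h5 : D b * X9 * Di b = cm g * (D a * X9 * Di a) * cm g⁻¹ := by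
      rw [← gg_eq, ← gg_eq]
      exact hc
    have h6 : (Di b * cm g * D a) * X9 = X9 * (Di b * cm g * D a) := by
      calc (Di b * cm g * D a) * X9 = Di b * (cm g * (D a * X9 * Di a) * cm g⁻¹) * cm g * D a := by
            have : Di b * (cm g * (D a * X9 * Di a) * cm g⁻¹) * cm g * D a =
                Di b * (cm g * (D a * X9 * Di a) * (cm g⁻¹ * cm g)) * D a := by simp only [mul_assoc]
            rw [this, h2, mul_one]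
            have : Di b * (cm g * (D a * X9 * Di a)) * D a = Di b * cm g * D a * X9 * (Di a * D a) := by
              simp only [mul_assoc]
            rw [this, Di_mul, mul_one]
        _ = Di b * (D b * X9 * Di b) * cm g * D a := by rw [← h5]
        _ = (Di b * D b) * X9 * (Di b * cm g * D a) := by simp only [mul_assoc]
        _ = _ := by rw [Di_mul, one_mul]
    have h7 : (Di b * cm g * D a)ᵀ * (Di b * cm g * D a).map (GUOrder.frob h9) = 1 := by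
      have e1 : (D a)ᵀ * (D a).map (GUOrder.frob h9) = 1 := isom_D' a
      have e2 : (Di b)ᵀ * (Di b).map (GUOrder.frob h9) = 1 := isom_Di' b
      have e3 := cm_isom h9 g
      rw [Matrix.map_mul, Matrix.map_mul, Matrix.transpose_mul, Matrix.transpose_mul]
      calc (D a)ᵀ * ((cm g)ᵀ * (Di b)ᵀ) * ((Di b).map (GUOrder.frob h9) * (cm g).map (GUOrder.frob h9) *
            (D a).map (GUOrder.frob h9)) = (D a)ᵀ * ((cm g)ᵀ * (((Di b)ᵀ * (Di b).map (GUOrder.frob h9)) *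
            (cm g).map (GUOrder.frob h9))) * (D a).map (GUOrder.frob h9) := by simp only [mul_assoc]
        _ = 1 := by rw [e2, one_mul, e3, mul_one, e1]
    have h8 := det_one_of_comm h7 h6
    rw [Matrix.det_mul, Matrix.det_mul, det_cm, mul_one, mul_comm] at h8
    rw [det_D a b h8]

theorem big : Big (Cfsg.PSU 4 F9 3) := by
  have hs : IsSimpleGroup (Cfsg.PSU 4 F9 3) := S0283.result h9 _ (by norm_num) (by norm_num)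
  have : CharP F9 3 := by
    have : Fact (Nat.Prime 3) := ⟨by norm_num⟩
    refine charP_of_card_eq_prime_pow (f := 2) ?_
    exact h9
  choose x hx using exists_el
  refine big_of_fam (p := 3) (by norm_num) (isLie (p := 3) h9 le_rfl) (fun i => pr (x i))
    (fun i j h => conj_cases (hx i) (hx j) h) (fun i => ?_) (by simp)
  refine dvd_of_pow (a := 2) (m := 4) (by norm_num) ?_ (pr_pow_ne h9 (by norm_num) fun c hc => ?_)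
  · rw [← map_pow]
    have h1 : x i ^ (3 ^ 2 * 4) = 1 := (cm_pow_eq_one_iff _ _).1 (by rw [hx]; exact pow36 i)
    rw [h1, map_one]
  · have h1 := nsc_M i
    rw [← hx, hc] at h1
    have h2 : isSc (c • (1 : Matrix (Fin 4) (Fin 4) F9)) = true := (isSc_iff _).2 ⟨c, rfl⟩
    rw [h2] at h1
    exact Bool.noConfusion h1

/-- `PSU_4(3)` -/
theorem big_psu43 {F : Type} [Field F] [Fintype F] (hF : Fintype.card F = 3 ^ 2) : Big (Cfsg.PSU 4 F 3) :=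
  Big.of_equiv (FieldTransfer.psuCongr 4 3 (FiniteField.ringEquivOfCardEq (hF.trans h9.symm))) big

end Cfsg.Agent.H279.ZerosPSU43
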