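import Cfsg.Agent.H279.ZerosTools
import Cfsg.Agent.H674.SteinbergSU
import Cfsg.Agent.S0283

/-!
# S4895, row `PSU_n(q)`, `n ≥ 4`: general tools
-/

set_option autoImplicit false
open Cfsg

namespace Cfsg.Agent.H279.ZerosPSU

open Matrix Polynomial Cfsg.Agent.H504.Zeros Cfsg.Agent.H279.ZerosTools
open Cfsg.Agent.LieClassical Cfsg.Agent.H674.SUTools Cfsg.Agent.H674.SUBlock Cfsg.Agent.H674.SteinbergSU

universe u

section Gen

variable {F : Type u} [Field F] [Fintype F] {n q : ℕ}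

/-- conjugacy in `PSU_n(q)` -/
theorem sim_of_pr (hF : Fintype.card F = q ^ 2) (hn : 3 ≤ n) {x y : Cfsg.SU n F q}
    (h : IsConj (pr x) (pr y)) : ∃ (c : F) (P Q : Matrix (Fin n) (Fin n) F), c ^ n = 1 ∧ c ^ (q + 1) = 1 ∧
      P * Q = 1 ∧ Q * P = 1 ∧ cm y = c • (P * cm x * Q) := by
  obtain ⟨c, h5⟩ := isConj_iff.1 h
  obtain ⟨g, rfl⟩ := pr_surjective c
  have h6 : pr ((g * x * g⁻¹)⁻¹ * y) = 1 := by
    rw [map_mul, map_inv, map_mul, map_mul, map_inv, h5]
    simp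
  rw [pr_eq_one_iff, SUBasic.mem_center_SU_iff hF hn] at h6
  obtain ⟨c, hcn, hcq, h7⟩ := h6
  have h8 : y = (g * x * g⁻¹) * SUBasic.suScalar q c hcn hcq := by
    rw [← h7]; group
  refine ⟨c, cm g, cm g⁻¹, hcn, hcq, ?_, ?_, ?_⟩
  · rw [← map_mul, mul_inv_cancel, map_one]
  · rw [← map_mul, inv_mul_cancel, map_one]
  · rw [h8, map_mul, map_mul, map_mul]
    show _ * Matrix.diagonal (fun _ => c) = _
    ext a b
    rw [Matrix.mul_diagonal, Matrix.smul_apply, smul_eq_mul, mul_comm]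

/-- conjugacy in `PSU_n(q)` and characteristic polynomials -/
theorem charpoly_of_pr (hF : Fintype.card F = q ^ 2) (hn : 3 ≤ n) {x y : Cfsg.SU n F q}
    (h : IsConj (pr x) (pr y)) : ∃ c : F, c ^ n = 1 ∧ c ^ (q + 1) = 1 ∧
      (cm y).charpoly = (cm x).charpoly.comp (C c⁻¹ * X) := by
  obtain ⟨c, P, Q, h1, h2, h3, h4, h5⟩ := sim_of_pr hF hn h
  have hc : c ≠ 0 := by
    rintro rfl
    rw [zero_pow (by omega)] at h1
    exact zero_ne_one h1
  refine ⟨c, h1, h2, ?_⟩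
  rw [h5, ZerosTools.charpoly_smul _ hc, Fintype.card_fin, h1, C_1, one_mul, Matrix.charpoly_mul_comm,
    ← mul_assoc, h4, one_mul]

/-- a Jordan block gives a `p`-singular element of `PSU_n(q)` -/
theorem dvd_pr (hF : Fintype.card F = q ^ 2) (hn : 3 ≤ n) (p : ℕ) [CharP F p] {x : Cfsg.SU n F q} {l : F}
    (hl : l ≠ 0) {v w : Fin n → F} (hv : cm x *ᵥ v = l • (v + w)) (hw : cm x *ᵥ w = l • w) (hw0 : w ≠ 0) :
    p ∣ orderOf (pr x) := by
  have h1 : pr (x ^ orderOf (pr x)) = 1 := by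
    rw [map_pow, pow_orderOf_eq_one]
  rw [pr_eq_one_iff, SUBasic.mem_center_SU_iff hF hn] at h1
  obtain ⟨c, hcn, hcq, h7⟩ := h1
  have h2 : cm x ^ orderOf (pr x) = c • (1 : Matrix (Fin n) (Fin n) F) := by
    rw [← map_pow, h7]
    show Matrix.diagonal (fun _ => c) = _
    rw [Matrix.smul_one_eq_diagonal]
  have h3 : (l⁻¹ • cm x) ^ orderOf (pr x) = (l⁻¹ ^ orderOf (pr x) * c) • (1 : Matrix (Fin n) (Fin n) F) := by
    rw [_root_.smul_pow, h2, smul_smul]
  refine dvd_of_pow_eq_smul (p := p) (v := v) (w := w) ?_ ?_ hw0 h3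
  · rw [Matrix.smul_mulVec, hv, smul_smul, inv_mul_cancel₀ hl, one_smul]
  · rw [Matrix.smul_mulVec, hw, smul_smul, inv_mul_cancel₀ hl, one_smul]

omit [Fintype F] in
/-- a block with a Jordan block -/
theorem exists_blk {d k : ℕ} {A : Matrix (Fin d) (Fin d) F} (B : Matrix (Fin k) (Fin k) F) {l : F}
    {v w : Fin d → F} (hv : A *ᵥ v = l • (v + w)) (hw : A *ᵥ w = l • w) (hw0 : w ≠ 0) :
    ∃ v' w' : Fin (d + k) → F, blk A B *ᵥ v' = l • (v' + w') ∧ blk A B *ᵥ w' = l • w' ∧ w' ≠ 0 := by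
  let f : (Fin d → F) → (Fin (d + k) → F) := fun v i => Sum.elim v (0 : Fin k → F) (finSumFinEquiv.symm i)
  have h1 : ∀ v, blk A B *ᵥ f v = f (A *ᵥ v) := by
    intro v
    have h5 : f v ∘ (finSumFinEquiv.symm : Fin (d + k) ≃ Fin d ⊕ Fin k).symm =
        Sum.elim v (0 : Fin k → F) := by
      funext j
      simp [f]
    have h6 : Matrix.fromBlocks A 0 0 B *ᵥ (Sum.elim v (0 : Fin k → F)) = Sum.elim (A *ᵥ v) (0 : Fin k → F) := by
      rw [fromBlocks_mulVec]
      ext (i | i) <;> simp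
    funext i
    rw [blk, Matrix.reindex_apply, Matrix.submatrix_mulVec_equiv, h5, h6]
    rfl
  have h2 : ∀ v v' : Fin d → F, f (v + v') = f v + f v' := by
    intro v v'
    funext i
    simp only [f, Pi.add_apply]
    rcases finSumFinEquiv.symm i with i | i <;> simp
  have h3 : ∀ (a : F) (v : Fin d → F), f (a • v) = a • f v := by
    intro a v
    funext i
    simp only [f, Pi.smul_apply]
    rcases finSumFinEquiv.symm i with i | i <;> simp
  refine ⟨f v, f w, ?_, ?_, ?_⟩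
  · rw [h1, hv, h3, h2]
  · rw [h1, hw, h3]
  · intro h
    apply hw0
    funext i
    have h4 := congrFun h (Fin.castAdd k i)
    simpa [f] using h4

/-- two dimensional cross-section -/
theorem exists_two (hF : Fintype.card F = q ^ 2) (a : F) (ha : a ^ q = a) :
    ∃ x : Cfsg.SU 2 F q, (cm x).charpoly = X ^ 2 - C a * X + 1 ∧
      (a = 2 → ∃ v w, cm x *ᵥ v = (1 : F) • (v + w) ∧ cm x *ᵥ w = (1 : F) • w ∧ w ≠ 0) := by
  obtain ⟨c, α, δ, h1, h2, h3, h4⟩ := exists_hyp hF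
  obtain ⟨i0, hi0, hi1⟩ := HermBasic.exists_trace_zero_ne hF
  set s := GUOrder.frob hF with hs
  have hi : s i0 = -i0 := by
    have : s i0 = i0 ^ q := rfl
    rw [this]
    linear_combination hi1
  have ha' : s a = a := ha
  let J : Matrix (Fin 2) (Fin 2) F := !![0, 1; 1, 0]
  let P : Matrix (Fin 2) (Fin 2) F := !![1, α; c, δ]
  have hJ : J * J = 1 := by
    ext i j
    fin_cases i <;> fin_cases j <;> simp [J, Matrix.mul_apply, Fin.sum_univ_succ]
  have hP : Pᵀ * P.map (GUOrder.frob hF) = J := by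
    ext i j
    fin_cases i <;> fin_cases j <;>
      simp [J, P, Matrix.mul_apply, Fin.sum_univ_succ, ← hs, h1, h2, h4]
    linear_combination h3
  obtain ⟨Q, hPQ, hQP⟩ := exists_inv hF hJ hP
  let M : Matrix (Fin 2) (Fin 2) F := !![a, -i0⁻¹; i0, 0]
  have hM : Mᵀ * J * M.map (GUOrder.frob hF) = J := by
    ext i j
    fin_cases i <;> fin_cases j <;>
      simp [J, M, Matrix.mul_apply, Fin.sum_univ_succ, ← hs, hi, ha', hi0]
    ring
  have hdet : M.det = 1 := by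
    simp [M, Matrix.det_fin_two, hi0]
  refine ⟨mkSU hF (P * M * Q) ?_ (isom_of_frame hF hPQ hP hM), ?_, ?_⟩
  · rw [Matrix.det_mul, Matrix.det_mul, hdet, mul_one, ← Matrix.det_mul, hPQ, Matrix.det_one]
  · rw [cm_mkSU, Matrix.charpoly_mul_comm, ← mul_assoc, hQP, one_mul, Matrix.charpoly_fin_two, hdet]
    simp [M, Matrix.trace_fin_two]
  · rintro rfl
    rw [cm_mkSU]
    have h5 : ∀ z, (P * M * Q) *ᵥ (P *ᵥ z) = P *ᵥ (M *ᵥ z) := by
      intro z
      rw [Matrix.mulVec_mulVec, Matrix.mulVec_mulVec]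
      congr 1
      rw [mul_assoc, hQP, mul_one]
    refine ⟨P *ᵥ ![1, 0], P *ᵥ ![1, i0], ?_, ?_, ?_⟩
    · rw [h5, one_smul, ← Matrix.mulVec_add]
      congr 1
      ext i
      fin_cases i
      · simp [M, Matrix.mulVec, dotProduct, Fin.sum_univ_succ]
        norm_num
      · simp [M, Matrix.mulVec, dotProduct, Fin.sum_univ_succ]
    · rw [h5, one_smul]
      congr 1
      ext i
      fin_cases i
      · simp [M, Matrix.mulVec, dotProduct, Fin.sum_univ_succ, hi0]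
        norm_num
      · simp [M, Matrix.mulVec, dotProduct, Fin.sum_univ_succ]
    · intro h6
      have h7 : Q *ᵥ (P *ᵥ ![1, i0]) = ![1, i0] := by
        rw [Matrix.mulVec_mulVec, hQP, Matrix.one_mulVec]
      rw [h6, Matrix.mulVec_zero] at h7
      exact zero_ne_one (congrFun h7 0)

end Gen

end Cfsg.Agent.H279.ZerosPSU
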