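import Cfsg.Agent.H279.ZerosPSUFour
import Cfsg.Agent.H674.TwelvePSU

/-!
# S4895, row `PSU_n(q)`: tools for the explicit cases
-/

set_option autoImplicit false
open Cfsg

namespace Cfsg.Agent.H279.ZerosPSU

open Matrix Cfsg.Agent.H504.Zeros Cfsg.Agent.H279.ZerosTools
open Cfsg.Agent.LieClassical Cfsg.Agent.H674.SUTools Cfsg.Agent.H674.SUBlock Cfsg.Agent.H674.SteinbergSU
open Cfsg.Agent.H674.Explicit

theorem dvd_of_pow {G : Type*} [Group G] {x : G} {p a m : ℕ} (hp : p.Prime) (h1 : x ^ (p ^ a * m) = 1)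
    (h2 : x ^ m ≠ 1) : p ∣ orderOf x := by
  by_contra h
  have h3 : (orderOf x).Coprime (p ^ a) := ((Nat.Prime.coprime_iff_not_dvd hp).2 h).symm.pow_right a
  exact h2 (orderOf_dvd_iff_pow_eq_one.1 (h3.dvd_of_dvd_mul_left (orderOf_dvd_of_pow_eq_one h1)))

section

variable {F : Type} [Field F] [Fintype F] {n q : ℕ}

/-- conjugacy in `PSU_n(q)` -/
theorem sim_of_pr' (hF : Fintype.card F = q ^ 2) (hn : 3 ≤ n) {x y : Cfsg.SU n F q}
    (h : IsConj (pr x) (pr y)) : ∃ (c : F) (g : Cfsg.SU n F q), c ^ n = 1 ∧ c ^ (q + 1) = 1 ∧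
      cm y = c • (cm g * cm x * cm g⁻¹) := by
  obtain ⟨c, h5⟩ := isConj_iff.1 h
  obtain ⟨g, rfl⟩ := pr_surjective c
  have h6 : pr ((g * x * g⁻¹)⁻¹ * y) = 1 := by
    rw [map_mul, map_inv, map_mul, map_mul, map_inv, h5]
    simp
  rw [pr_eq_one_iff, SUBasic.mem_center_SU_iff hF hn] at h6
  obtain ⟨c, hcn, hcq, h7⟩ := h6
  have h8 : y = (g * x * g⁻¹) * SUBasic.suScalar q c hcn hcq := by
    rw [← h7]; group
  refine ⟨c, g, hcn, hcq, ?_⟩
  rw [h8, map_mul, map_mul, map_mul]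
  show _ * Matrix.diagonal (fun _ => c) = _
  ext a b
  rw [Matrix.mul_diagonal, Matrix.smul_apply, smul_eq_mul, mul_comm]

/-- powers that are not scalar -/
theorem pr_pow_ne (hF : Fintype.card F = q ^ 2) (hn : 3 ≤ n) {x : Cfsg.SU n F q} {m : ℕ}
    (h : ∀ c : F, cm x ^ m ≠ c • (1 : Matrix (Fin n) (Fin n) F)) : pr x ^ m ≠ 1 := by
  intro h1
  rw [← map_pow, pr_eq_one_iff, SUBasic.mem_center_SU_iff hF hn] at h1
  obtain ⟨c, hcn, hcq, h7⟩ := h1
  apply h c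
  rw [← map_pow, h7]
  show Matrix.diagonal (fun _ => c) = _
  rw [Matrix.smul_one_eq_diagonal]

/-- rank at most one -/
def R1 (N : Matrix (Fin n) (Fin n) F) : Prop := ∃ v w : Fin n → F, N = vecMulVec v w

omit [Fintype F] in
theorem R1.conj {N : Matrix (Fin n) (Fin n) F} (h : R1 N) (P Q : Matrix (Fin n) (Fin n) F) :
    R1 (P * N * Q) := by
  obtain ⟨v, w, rfl⟩ := h
  exact ⟨P *ᵥ v, w ᵥ* Q, by rw [Matrix.mul_vecMulVec, Matrix.vecMulVec_mul]⟩

omit [Fintype F] in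
theorem not_R1 {N : Matrix (Fin n) (Fin n) F} (i j k l : Fin n) (h : N i k * N j l ≠ N i l * N j k) : ¬ R1 N := by
  rintro ⟨v, w, rfl⟩
  apply h
  simp only [vecMulVec_apply]
  ring

omit [Fintype F] in
theorem conj_pow3 {P Q M : Matrix (Fin n) (Fin n) F} (h1 : P * Q = 1) (h2 : Q * P = 1) (k : ℕ) :
    (P * M * Q) ^ k = P * M ^ k * Q := by
  induction k with
  | zero => simp [h1]
  | succ k ih =>
    rw [pow_succ, ih, pow_succ]
    calc P * M ^ k * Q * (P * M * Q) = P * M ^ k * (Q * P) * M * Q := by simp only [mul_assoc]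
      _ = _ := by rw [h2, mul_one]; simp only [mul_assoc]

/-- the rank one property of a power is a class function on `PSU` -/
theorem R1_of_pr (hF : Fintype.card F = q ^ 2) (hn : 3 ≤ n) {x y : Cfsg.SU n F q}
    (h : IsConj (pr x) (pr y)) {m : ℕ} (hm : ∀ c : F, c ^ n = 1 → c ^ (q + 1) = 1 → c ^ m = 1)
    (hx : R1 (cm x ^ m - 1)) : R1 (cm y ^ m - 1) := by
  obtain ⟨c, P, Q, h1, h2, h3, h4, h5⟩ := sim_of_pr hF hn h
  rw [h5, smul_pow, hm c h1 h2, one_smul, conj_pow3 h3 h4]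
  have h6 : P * cm x ^ m * Q - 1 = P * (cm x ^ m - 1) * Q := by
    rw [mul_sub, sub_mul, mul_one, h3]
  rw [h6]
  exact hx.conj P Q

end

end Cfsg.Agent.H279.ZerosPSU
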