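import Cfsg.Agent.H279.ZerosPSUBase

/-!
# S4895, row `PSU_n(q)`, `n ≥ 5`, `q ≥ 3`
-/

set_option autoImplicit false
open Cfsg

namespace Cfsg.Agent.H279.ZerosPSU

open Matrix Polynomial Cfsg.Agent.H504.Zeros Cfsg.Agent.H279.ZerosTools
open Cfsg.Agent.LieClassical Cfsg.Agent.H674.SUTools Cfsg.Agent.H674.SUBlock Cfsg.Agent.H674.SteinbergSU

section Fam

variable {F : Type} [Field F] [Fintype F] {q : ℕ}

/-- `X³ - t X² + t̄ X - 1` -/
noncomputable def h3 (hF : Fintype.card F = q ^ 2) (t : F) : F[X] :=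
  X ^ 3 - C t * X ^ 2 + C (GUOrder.frob hF t) * X - 1

theorem h3_ne (hF : Fintype.card F = q ^ 2) (t : F) : h3 hF t ≠ 0 := by
  intro h
  have := congrArg (fun p => p.coeff 3) h
  simp [h3, coeff_one] at this

theorem h3_deg (hF : Fintype.card F = q ^ 2) (t : F) : (h3 hF t).natDegree ≤ 3 := by
  unfold h3
  compute_degree

theorem h3_inj (hF : Fintype.card F = q ^ 2) {t t' : F} (h : h3 hF t = h3 hF t') : t = t' := by
  have h3 := congrArg (fun p => p.coeff 2) h
  simp [ZerosPSU.h3, coeff_one] at h3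
  exact h3

/-- a double root -/
theorem h3_double (hF : Fintype.card F = q ^ 2) {t c : F} (h : (X - C c) ^ 2 ∣ h3 hF t) :
    t = 2 * c + c⁻¹ ^ 2 := by
  obtain ⟨r, hr⟩ := h
  have h1 : (h3 hF t).eval c = 0 := by rw [hr]; simp
  have h2 : (h3 hF t).derivative.eval c = 0 := by
    rw [hr, derivative_mul, derivative_pow]
    simp
  simp [h3] at h1 h2
  have hc : c ≠ 0 := by
    rintro rfl
    simp at h1
  -- c³ - t c² + s c - 1 = 0, 3 c² - 2 t c + s = 0
  field_simp
  linear_combination h1 - c * h2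

/-- a triple root -/
theorem h3_triple (hF : Fintype.card F = q ^ 2) {t c : F} (h : (X - C c) ^ 3 ∣ h3 hF t) :
    c ^ 3 = 1 := by
  obtain ⟨r, hr⟩ := h
  have h1 : (X - C c) ^ 3 = h3 hF t := by
    have h2 : r ≠ 0 := by
      rintro rfl
      rw [mul_zero] at hr
      exact h3_ne hF t hr
    have h4 : (h3 hF t).natDegree = 3 + r.natDegree := by
      rw [hr, natDegree_mul (pow_ne_zero _ (X_sub_C_ne_zero c)) h2, natDegree_pow, natDegree_X_sub_C, mul_one]
    have h5 : r.natDegree = 0 := by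
      have := h3_deg hF t
      omega
    obtain ⟨d, rfl⟩ : ∃ d, r = C d := ⟨_, eq_C_of_natDegree_eq_zero h5⟩
    have h6 := congrArg (fun p => p.coeff 3) hr
    have h7 : ((X - C c) ^ 3 * C d).coeff 3 = d := by
      rw [coeff_mul_C]
      have : ((X - C c) ^ 3).coeff 3 = 1 := by
        have h8 : ((X - C c) ^ 3).Monic := (monic_X_sub_C c).pow 3
        have h9 : ((X - C c) ^ 3).natDegree = 3 := by
          rw [natDegree_pow, natDegree_X_sub_C]
        have := h8.coeff_natDegree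
        rwa [h9] at this
      rw [this, one_mul]
    have h8 : (h3 hF t).coeff 3 = 1 := by simp [h3, coeff_one]
    simp only [h7, h8] at h6
    rw [hr, ← h6, C_1, mul_one]
  have h2 := congrArg (fun p => p.eval 0) h1
  simp [h3] at h2
  linear_combination (-1 : F) * h2

/-- the family -/
theorem exists_fam5 (hF : Fintype.card F = q ^ 2) (k : ℕ) :
    ∃ f : F → Cfsg.SU (2 + (3 + k)) F q, (∀ t, (cm (f t)).charpoly = (X - 1) ^ (2 + k) * h3 hF t) ∧
      ∀ (p : ℕ) [CharP F p] (t : F), p ∣ orderOf (pr (f t)) := by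
  obtain ⟨u, hu, hu'⟩ := exists_two hF 2 (by
    have h1 : GUOrder.frob hF 2 = 2 := map_ofNat _ 2
    exact h1)
  obtain ⟨v, w, hv, hw, hw0⟩ := hu' rfl
  choose f hf using fun t : F => exists_three hF t
  refine ⟨fun t => mkSU hF (blk (cm u) (blk (cm (f t)) (1 : Matrix (Fin k) (Fin k) F)))
    (by rw [det_blk, det_blk, det_cm, det_cm, Matrix.det_one, one_mul, one_mul])
    (isom_blk hF (cm_isom hF u) (isom_blk hF (cm_isom hF (f t)) (isom_one hF))), fun t => ?_, fun p _ t => ?_⟩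
  · rw [cm_mkSU, charpoly_blk, charpoly_blk, hu, hf, Matrix.charpoly_one, Fintype.card_fin, h3,
      show (C 2 : F[X]) = 2 from map_ofNat C 2]
    ring
  · obtain ⟨v', w', h1, h2, h3⟩ := exists_blk (blk (cm (f t)) (1 : Matrix (Fin k) (Fin k) F)) hv hw hw0
    exact dvd_pr hF (by omega) p one_ne_zero h1 h2 h3

/-- conjugacy in `PSU` inside the family -/
theorem fam5_conj (hF : Fintype.card F = q ^ 2) {k : ℕ} {f : F → Cfsg.SU (2 + (3 + k)) F q}
    (hf : ∀ t, (cm (f t)).charpoly = (X - 1) ^ (2 + k) * h3 hF t) {t t' : F}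
    (h : IsConj (pr (f t)) (pr (f t'))) :
    t = t' ∨ ∃ c : F, c ≠ 1 ∧ c ^ (q + 1) = 1 ∧ (c ^ 5 = 1 ∨ c ^ 3 = 1) ∧ t' = 2 * c + c⁻¹ ^ 2 := by
  obtain ⟨c, hcn, hcq, hc⟩ := charpoly_of_pr hF (by omega) h
  have hc0 : c ≠ 0 := by
    rintro rfl
    rw [zero_pow (by omega)] at hcn
    exact zero_ne_one hcn
  rw [hf, hf] at hc
  by_cases hc1 : c = 1
  · left
    rw [hc1, inv_one, C_1, one_mul, comp_X] at hc
    have h1 : ((X : F[X]) - 1) ≠ 0 := by
      have := X_sub_C_ne_zero (1 : F)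
      rwa [C_1] at this
    exact (h3_inj hF (mul_left_cancel₀ (pow_ne_zero _ h1) hc)).symm
  · right
    have h1 : (X - C c) ^ (2 + k) ∣ h3 hF t' := by
      have h2 : (X - C c) ^ (2 + k) ∣ (X - 1) ^ (2 + k) * h3 hF t' := by
        rw [hc, mul_comp, pow_comp, sub_comp, X_comp, one_comp]
        have h3 : (C c⁻¹ * X - 1 : F[X]) = C c⁻¹ * (X - C c) := by
          rw [mul_sub, ← C_mul, inv_mul_cancel₀ hc0, C_1]
        rw [h3, mul_pow]
        exact dvd_mul_of_dvd_left (Dvd.intro_left _ rfl) _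
      refine (IsCoprime.pow ?_).dvd_of_dvd_mul_left h2
      have h4 := isCoprime_X_sub_C_of_isUnit_sub (R := F) (a := c) (b := 1) (by
        exact (sub_ne_zero.2 hc1).isUnit)
      rwa [C_1] at h4
    have h2 : (X - C c) ^ 2 ∣ h3 hF t' := (pow_dvd_pow _ (by omega)).trans h1
    have hk : k ≤ 1 := by
      have h4 := natDegree_le_of_dvd h1 (h3_ne hF t')
      rw [natDegree_pow, natDegree_X_sub_C, mul_one] at h4
      have := h3_deg hF t'
      omega
    refine ⟨c, hc1, hcq, ?_, h3_double hF h2⟩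
    rcases Nat.le_one_iff_eq_zero_or_eq_one.1 hk with rfl | rfl
    · left
      exact hcn
    · right
      exact h3_triple hF h1

/-- the possible exceptions -/
theorem exists_good (hF : Fintype.card F = q ^ 2) (hq : 3 ≤ q) : ∃ E : Finset F, 9 ≤ E.card ∧
    ∀ t ∈ E, ∀ c : F, c ≠ 1 → c ^ (q + 1) = 1 → (c ^ 5 = 1 ∨ c ^ 3 = 1) → t ≠ 2 * c + c⁻¹ ^ 2 := by
  classical
  rcases Nat.eq_or_lt_of_le hq with h | h
  · refine ⟨Finset.univ, ?_, fun t _ c hc hc1 hc2 => ?_⟩
    · rw [Finset.card_univ, hF, ← h]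
      norm_num
    · exfalso
      rw [← h] at hc1
      apply hc
      rcases hc2 with hc2 | hc2
      · calc c = c ^ 5 := by rw [pow_succ, hc1, one_mul]
          _ = 1 := hc2
      · calc c = c ^ 3 * c := by rw [hc2, one_mul]
          _ = 1 := by rw [← pow_succ, hc1]
  · let A : Finset F := ((nthRoots 5 (1 : F)).toFinset.erase 1) ∪ ((nthRoots 3 (1 : F)).toFinset.erase 1)
    have hA : A.card ≤ 6 := by
      have h1 : ((nthRoots 5 (1 : F)).toFinset.erase 1).card ≤ 4 := by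
        rw [Finset.card_erase_of_mem (by
          rw [Multiset.mem_toFinset, mem_nthRoots (by norm_num), one_pow])]
        have := (Multiset.toFinset_card_le (nthRoots 5 (1 : F))).trans (card_nthRoots 5 1)
        omega
      have h2 : ((nthRoots 3 (1 : F)).toFinset.erase 1).card ≤ 2 := by
        rw [Finset.card_erase_of_mem (by
          rw [Multiset.mem_toFinset, mem_nthRoots (by norm_num), one_pow])]
        have := (Multiset.toFinset_card_le (nthRoots 3 (1 : F))).trans (card_nthRoots 3 1)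
        omega
      exact (Finset.card_union_le _ _).trans (by omega)
    refine ⟨Finset.univ \ A.image fun c => 2 * c + c⁻¹ ^ 2, ?_, fun t ht c hc hc1 hc2 h' => ?_⟩
    · have h1 := Finset.le_card_sdiff (A.image fun c => 2 * c + c⁻¹ ^ 2) (Finset.univ : Finset F)
      rw [Finset.card_univ, hF] at h1
      have h2 := (Finset.card_image_le (s := A) (f := fun c => 2 * c + c⁻¹ ^ 2)).trans hA
      have h3 : 16 ≤ q ^ 2 := by nlinarith
      omega
    · refine (Finset.mem_sdiff.1 ht).2 (Finset.mem_image.2 ⟨c, ?_, h'.symm⟩)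
      rcases hc2 with hc2 | hc2
      · exact Finset.mem_union_left _ (Finset.mem_erase.2 ⟨hc, by
          rw [Multiset.mem_toFinset, mem_nthRoots (by norm_num), hc2]⟩)
      · exact Finset.mem_union_right _ (Finset.mem_erase.2 ⟨hc, by
          rw [Multiset.mem_toFinset, mem_nthRoots (by norm_num), hc2]⟩)

theorem isLie (hF : Fintype.card F = q ^ 2) {p n : ℕ} [CharP F p] (hn : 4 ≤ n) :
    IsLieTypeChar p (Cfsg.PSU n F q) :=
  Or.inr (Or.inr (Or.inl ⟨F, inferInstance, inferInstance, inferInstance, n, q, hF, by omega,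
    fun h => by omega, ⟨MulEquiv.refl _⟩⟩))

/-- `n ≥ 5`, `q ≥ 3` -/
theorem big_five (hF : Fintype.card F = q ^ 2) (hq : 3 ≤ q) {n : ℕ} (hn : 5 ≤ n) :
    Big (Cfsg.PSU n F q) := by
  obtain ⟨k, rfl⟩ : ∃ k, n = 2 + (3 + k) := ⟨n - 5, by omega⟩
  obtain ⟨p, hc⟩ := CharP.exists F
  have hp : p.Prime := CharP.char_is_prime F p
  have hs : IsSimpleGroup (Cfsg.PSU (2 + (3 + k)) F q) := S0283.result hF _ (by omega) (by omega)
  obtain ⟨f, hf, hf'⟩ := exists_fam5 hF k
  obtain ⟨E, hE, hE'⟩ := exists_good hF hq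
  refine big_of_fam hp (isLie (p := p) hF (by omega)) (fun t : E => pr (f t)) ?_ (fun t => hf' p t) ?_
  · intro t t' h
    rcases fam5_conj hF hf h with h1 | ⟨c, h1, h2, h3, h4⟩
    · exact Subtype.ext h1
    · exact (hE' t' t'.2 c h1 h2 h3 h4).elim
  · rwa [Fintype.card_coe]

end Fam

end Cfsg.Agent.H279.ZerosPSU
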