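import Cfsg.Agent.H279.ZerosPSUFive

/-!
# S4895, row `PSU_4(q)`, `q ≥ 4`
-/

set_option autoImplicit false
open Cfsg

namespace Cfsg.Agent.H279.ZerosPSU

open Matrix Polynomial Cfsg.Agent.H504.Zeros Cfsg.Agent.H279.ZerosTools
open Cfsg.Agent.LieClassical Cfsg.Agent.H674.SUTools Cfsg.Agent.H674.SUBlock Cfsg.Agent.H674.SteinbergSU

section Fam

variable {F : Type} [Field F] [Fintype F] {q : ℕ}

theorem isom_smul (hF : Fintype.card F = q ^ 2) {d : ℕ} {A : Matrix (Fin d) (Fin d) F} {l : F}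
    (hl : l * GUOrder.frob hF l = 1) (hA : Aᵀ * A.map (GUOrder.frob hF) = 1) :
    (l • A)ᵀ * (l • A).map (GUOrder.frob hF) = 1 := by
  have h1 : (l • A).map (GUOrder.frob hF) = GUOrder.frob hF l • A.map (GUOrder.frob hF) := by
    ext i j
    simp
  rw [h1, Matrix.transpose_smul, Matrix.smul_mul, Matrix.mul_smul, smul_smul, hl, hA, one_smul]

theorem charpoly_two_smul {A : Matrix (Fin 2) (Fin 2) F} {a l : F} (hl : l ≠ 0)
    (hA : A.charpoly = X ^ 2 - C a * X + 1) : (l • A).charpoly = X ^ 2 - C (l * a) * X + C (l ^ 2) := by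
  rw [ZerosTools.charpoly_smul A hl, hA, Fintype.card_fin]
  have h1 : (C l * C l⁻¹ : F[X]) = 1 := by rw [← C_mul, mul_inv_cancel₀ hl, C_1]
  simp only [add_comp, sub_comp, pow_comp, mul_comp, X_comp, C_comp, one_comp, C_pow, C_mul]
  linear_combination (C l * C l⁻¹ * X ^ 2 + X ^ 2 - C l * C a * X) * h1

/-- the family -/
theorem exists_fam4 (hF : Fintype.card F = q ^ 2) :
    ∃ f : {l : F // l * l ^ q = 1} → {v : F // v ^ q = v} → Cfsg.SU 4 F q,
      (∀ l v, (cm (f l v)).charpoly = (X - C (l : F)) ^ 2 * (X ^ 2 - C ((l : F)⁻¹ * v) * X + C ((l : F)⁻¹ ^ 2))) ∧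
      ∀ (p : ℕ) [CharP F p] l v, p ∣ orderOf (pr (f l v)) := by
  obtain ⟨u, hu, hu'⟩ := exists_two hF 2 (by
    have h1 : GUOrder.frob hF 2 = 2 := map_ofNat _ 2
    exact h1)
  obtain ⟨v, w, hv, hw, hw0⟩ := hu' rfl
  choose f hf using fun t : {v : F // v ^ q = v} => exists_two hF t.1 t.2
  have hl0 : ∀ l : {l : F // l * l ^ q = 1}, (l : F) ≠ 0 := fun l => left_ne_zero_of_mul_eq_one l.2
  have hl2 : ∀ l : {l : F // l * l ^ q = 1}, (l : F)⁻¹ * GUOrder.frob hF (l : F)⁻¹ = 1 := fun l => by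
    rw [map_inv₀, ← mul_inv]
    have h1 : (l : F) * GUOrder.frob hF (l : F) = 1 := l.2
    rw [h1, inv_one]
  refine ⟨fun l v => mkSU (n := 2 + 2) hF (blk ((l : F) • cm u) ((l : F)⁻¹ • cm (f v))) ?_
    (isom_blk hF (isom_smul hF l.2 (cm_isom hF u)) (isom_smul hF (hl2 l) (cm_isom hF (f v)))),
    fun l v => ?_, fun p _ l v' => ?_⟩
  · rw [det_blk, Matrix.det_smul, Matrix.det_smul, det_cm, det_cm, Fintype.card_fin, mul_one, mul_one,
      ← mul_pow, mul_inv_cancel₀ (hl0 l), one_pow]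
  · show (cm (mkSU (n := 2 + 2) hF _ _ _)).charpoly = _
    rw [cm_mkSU, charpoly_blk, charpoly_two_smul (hl0 l) hu,
      charpoly_two_smul (inv_ne_zero (hl0 l)) (hf v).1]
    congr 1
    rw [C_mul, C_pow, show (C 2 : F[X]) = 2 from map_ofNat C 2]
    ring
  · have hv1 : ((l : F) • cm u) *ᵥ v = (l : F) • (v + w) := by
      rw [Matrix.smul_mulVec, hv, one_smul]
    have hw1 : ((l : F) • cm u) *ᵥ w = (l : F) • w := by
      rw [Matrix.smul_mulVec, hw, one_smul]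
    obtain ⟨v', w', h1, h2, h3⟩ := exists_blk ((l : F)⁻¹ • cm (f v')) hv1 hw1 hw0
    exact dvd_pr (n := 2 + 2) hF (by omega) p (hl0 l) h1 h2 h3

omit [Fintype F] in
theorem quad_inj {a b a' b' : F} (h : (X ^ 2 - C a * X + C b : F[X]) = X ^ 2 - C a' * X + C b') :
    a = a' ∧ b = b' := by
  have h4 := congrArg (fun p => p.coeff 1) h
  have h5 := congrArg (fun p => p.coeff 0) h
  simp [coeff_C] at h4 h5
  exact ⟨h4, h5⟩

theorem fam4_inj {l v l' v' : F} (hl : l ≠ 0) (hl' : l' ≠ 0) (hv' : v' ^ 2 ≠ 4)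
    (h : (X - C l) ^ 2 * (X ^ 2 - C (l⁻¹ * v) * X + C (l⁻¹ ^ 2)) =
      (X - C l') ^ 2 * (X ^ 2 - C (l'⁻¹ * v') * X + C (l'⁻¹ ^ 2) : F[X])) : l = l' ∧ v = v' := by
  have h0 : ∀ x : F, (X - C x) ^ 2 ≠ 0 := fun x => pow_ne_zero _ (X_sub_C_ne_zero x)
  by_cases hll : l = l'
  · subst hll
    refine ⟨rfl, ?_⟩
    have h1 := mul_left_cancel₀ (h0 l) h
    have h2 := congrArg (fun p => p.coeff 1) h1
    simp [coeff_one, coeff_X, coeff_C, hl] at h2
    exact h2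
  · exfalso
    have h1 : (X - C l) ^ 2 ∣ (X - C l') ^ 2 * (X ^ 2 - C (l'⁻¹ * v') * X + C (l'⁻¹ ^ 2) : F[X]) := by
      rw [← h]
      exact Dvd.intro _ rfl
    have h2 : (X - C l) ^ 2 ∣ (X ^ 2 - C (l'⁻¹ * v') * X + C (l'⁻¹ ^ 2) : F[X]) :=
      (IsCoprime.pow (isCoprime_X_sub_C_of_isUnit_sub (sub_ne_zero.2 hll).isUnit)).dvd_of_dvd_mul_left h1
    have h3 : (X ^ 2 - C (l'⁻¹ * v') * X + C (l'⁻¹ ^ 2) : F[X]) = (X - C l) ^ 2 := by
      refine eq_of_monic_of_dvd_of_natDegree_le ((monic_X_sub_C l).pow 2) ?_ h2 ?_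
      · monicity!
      · rw [natDegree_pow, natDegree_X_sub_C]
        compute_degree
    have h6 : ((X - C l) ^ 2 : F[X]) = X ^ 2 - C (2 * l) * X + C (l ^ 2) := by
      rw [C_mul, C_pow, show (C 2 : F[X]) = 2 from map_ofNat C 2]
      ring
    rw [h6] at h3
    obtain ⟨h4, h5⟩ := quad_inj h3
    apply hv'
    field_simp at h4 h5
    rw [h4]
    linear_combination (-4 : F) * h5

theorem card_index (hF : Fintype.card F = q ^ 2) (hq : 4 ≤ q) :
    8 * Nat.gcd 4 (q + 1) < Nat.card ({l : F // l * l ^ q = 1} × {v : F // v ^ q = v ∧ v ^ 2 ≠ 4}) := by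
  classical
  rw [Nat.card_prod, HermBasic.card_norm_eq_one hF]
  have h1 : q - 2 ≤ Nat.card {v : F // v ^ q = v ∧ v ^ 2 ≠ 4} := by
    have h2 := HermBasic.card_fixed hF
    rw [Nat.card_eq_fintype_card, Fintype.card_subtype] at h2 ⊢
    have h3 : (Finset.univ.filter fun v : F => v ^ q = v) \ {2, -2} ⊆
        Finset.univ.filter fun v : F => v ^ q = v ∧ v ^ 2 ≠ 4 := by
      intro v hv
      obtain ⟨hv1, hv2⟩ := Finset.mem_sdiff.1 hv
      refine Finset.mem_filter.2 ⟨Finset.mem_univ _, (Finset.mem_filter.1 hv1).2, fun h => hv2 ?_⟩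
      have h4 : (v - 2) * (v + 2) = 0 := by linear_combination h
      rcases mul_eq_zero.1 h4 with h5 | h5
      · simp [sub_eq_zero.1 h5]
      · simp [eq_neg_of_add_eq_zero_left h5]
    have h4 := Finset.card_le_card h3
    have h5 := Finset.le_card_sdiff ({2, -2} : Finset F) (Finset.univ.filter fun v : F => v ^ q = v)
    rw [h2] at h5
    have h6 := Finset.card_le_two (a := (2 : F)) (b := -2)
    omega
  have h2 : (q + 1) * (q - 2) ≤ (q + 1) * Nat.card {v : F // v ^ q = v ∧ v ^ 2 ≠ 4} :=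
    Nat.mul_le_mul_left _ h1
  refine lt_of_lt_of_le ?_ h2
  rcases lt_or_ge q 8 with h3 | h3
  · interval_cases q <;> decide
  · have h4 : Nat.gcd 4 (q + 1) ≤ 4 := Nat.gcd_le_left _ (by norm_num)
    obtain ⟨r, rfl⟩ : ∃ r, q = r + 2 := ⟨q - 2, by omega⟩
    rw [Nat.add_sub_cancel]
    nlinarith

/-- `n = 4`, `q ≥ 4` -/
theorem big_four (hF : Fintype.card F = q ^ 2) (hq : 4 ≤ q) : Big (Cfsg.PSU 4 F q) := by
  have : Finite (Cfsg.SU 4 F q) := Subtype.finite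
  obtain ⟨p, hc⟩ := CharP.exists F
  have hp : p.Prime := CharP.char_is_prime F p
  have hs : IsSimpleGroup (Cfsg.PSU 4 F q) := S0283.result hF _ (by omega) (by omega)
  obtain ⟨f, hf, hf'⟩ := exists_fam4 hF
  obtain ⟨s, h1, h2, h3⟩ := exists_nine (Subgroup.center (Cfsg.SU 4 F q))
    (fun i : {l : F // l * l ^ q = 1} × {v : F // v ^ q = v ∧ v ^ 2 ≠ 4} => f i.1 ⟨i.2.1, i.2.2.1⟩)
    (fun i j hij => by
      have h3 := charpoly_eq_of_isConj hij
      rw [hf, hf] at h3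
      obtain ⟨h4, h5⟩ := fam4_inj (left_ne_zero_of_mul_eq_one i.1.2) (left_ne_zero_of_mul_eq_one j.1.2)
        j.2.2.2 h3
      exact Prod.ext (Subtype.ext h4) (Subtype.ext h5))
    (by
      rw [Cfsg.Agent.S0279.result hF 4 (by norm_num)]
      exact card_index hF hq)
  refine big_of_lie hp (isLie (p := p) hF le_rfl) s h1 (fun g hg => ?_) h2
  obtain ⟨i, rfl⟩ := h3 g hg
  exact hf' p _ _

end Fam

end Cfsg.Agent.H279.ZerosPSU
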