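import Cfsg.Agent.H504.ZerosLie

/-!
# Tools for S4895: non-conjugate elements in a quotient by a central subgroup, `p`-singular matrices
-/

set_option autoImplicit false

namespace Cfsg.Agent.H279.ZerosTools

open Cfsg Cfsg.Agent.H504.Zeros Matrix

universe u v

/-- a family of pairwise non-conjugate elements of `G`, more than `8|Z|` of them, gives nine pairwise
non-conjugate elements of `G/Z`. -/
theorem exists_nine {G : Type u} [Group G] [Finite G] (Z : Subgroup G) [Z.Normal]
    {ι : Type v} [Finite ι] (f : ι → G) (hf : ∀ i j, IsConj (f i) (f j) → i = j)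
    (hcard : 8 * Nat.card Z < Nat.card ι) :
    ∃ s : Finset (G ⧸ Z), NonConj s ∧ 9 ≤ s.card ∧ ∀ x ∈ s, ∃ i, x = (f i : G ⧸ Z) := by
  classical
  have : Fintype ι := Fintype.ofFinite ι
  have : Fintype Z := Fintype.ofFinite Z
  let c : ι → ConjClasses (G ⧸ Z) := fun i => ConjClasses.mk (f i : G ⧸ Z)
  have hfib : ∀ b ∈ (Finset.univ : Finset ι).image c,
      ((Finset.univ : Finset ι).filter fun i => c i = b).card ≤ Nat.card Z := by
    intro b hb
    obtain ⟨i0, -, rfl⟩ := Finset.mem_image.1 hb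
    have h1 : ∀ i : ι, c i = c i0 → ∃ z : Z, IsConj (f i) (f i0 * z) := by
      intro i hi
      obtain ⟨g, hg⟩ := isConj_iff.1 (ConjClasses.mk_eq_mk_iff_isConj.1 hi)
      obtain ⟨g, rfl⟩ := QuotientGroup.mk_surjective g
      have h2 : (QuotientGroup.mk (g * f i * g⁻¹) : G ⧸ Z) = QuotientGroup.mk (f i0) := by
        simpa using hg
      rw [eq_comm, QuotientGroup.eq] at h2
      exact ⟨⟨_, h2⟩, isConj_iff.2 ⟨g, by group⟩⟩
    choose z hz using h1
    rw [Nat.card_eq_fintype_card, ← Finset.card_univ]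
    refine Finset.card_le_card_of_injOn
      (fun i => if h : c i = c i0 then z i h else 1) (fun _ _ => Finset.mem_univ _) ?_
    intro i hi j hj hij
    have hi' : c i = c i0 := (Finset.mem_filter.1 (Finset.mem_coe.1 hi)).2
    have hj' : c j = c i0 := (Finset.mem_filter.1 (Finset.mem_coe.1 hj)).2
    simp only [dif_pos hi', dif_pos hj'] at hij
    refine hf i j ((hz i hi').trans ?_)
    rw [hij]
    exact (hz j hj').symm
  have h1 := Finset.card_le_mul_card_image (Finset.univ : Finset ι) (f := c) (Nat.card Z) hfib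
  rw [Finset.card_univ, ← Nat.card_eq_fintype_card] at h1
  have h2 : 9 ≤ ((Finset.univ : Finset ι).image c).card := by
    by_contra h
    have h3 : ((Finset.univ : Finset ι).image c).card ≤ 8 := by omega
    have h4 := Nat.mul_le_mul_left (Nat.card Z) h3
    omega
  have h3 : ∀ b ∈ (Finset.univ : Finset ι).image c, ∃ i : ι, c i = b := fun b hb => by
    obtain ⟨i, -, hi⟩ := Finset.mem_image.1 hb
    exact ⟨i, hi⟩
  have : Nonempty ι := (Nat.card_pos_iff.1 (by omega)).1
  choose! r hr using h3
  refine ⟨((Finset.univ : Finset ι).image c).image fun b => (f (r b) : G ⧸ Z), ?_, ?_, ?_⟩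
  · intro g hg h hh hgh
    obtain ⟨a, ha, rfl⟩ := Finset.mem_image.1 hg
    obtain ⟨b, hb, rfl⟩ := Finset.mem_image.1 hh
    have h4 : c (r a) = c (r b) := ConjClasses.mk_eq_mk_iff_isConj.2 hgh
    rw [hr a ha, hr b hb] at h4
    rw [h4]
  · rw [Finset.card_image_of_injOn]
    · exact h2
    · intro a ha b hb hab
      rw [← hr a ha, ← hr b hb]
      exact congrArg ConjClasses.mk hab
  · intro x hx
    obtain ⟨b, -, rfl⟩ := Finset.mem_image.1 hx
    exact ⟨r b, rfl⟩

/-- an indexed family of nine non-conjugate `p`-singular elements of a simple group of Lie type. -/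
theorem big_of_fam {p : ℕ} (hp : p.Prime) {T : Type u} [Group T] [Finite T] [IsSimpleGroup T]
    (h : IsLieTypeChar p T) {ι : Type v} [Fintype ι] (f : ι → T)
    (hf : ∀ i j, IsConj (f i) (f j) → i = j) (hps : ∀ i, p ∣ orderOf (f i))
    (hcard : 9 ≤ Fintype.card ι) : Big T := by
  classical
  refine big_of_lie hp h ((Finset.univ : Finset ι).image f) ?_ ?_ ?_
  · intro g hg h hh hgh
    obtain ⟨i, -, rfl⟩ := Finset.mem_image.1 hg
    obtain ⟨j, -, rfl⟩ := Finset.mem_image.1 hh
    rw [hf i j hgh]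
  · intro g hg
    obtain ⟨i, -, rfl⟩ := Finset.mem_image.1 hg
    exact hps i
  · rw [Finset.card_image_of_injective]
    · exact hcard
    · intro i j hij
      exact hf i j (by rw [hij])

section Sing

variable {F : Type u} [Field F] {n : Type v} [Fintype n] [DecidableEq n]

/-- `(M - 1)² v = 0`, `(M - 1) v ≠ 0`: then `Mᵏ v = v + k (M - 1) v`. -/
theorem pow_mulVec {M : Matrix n n F} {v w : n → F} (hv : M *ᵥ v = v + w) (hw : M *ᵥ w = w) (k : ℕ) :
    (M ^ k) *ᵥ v = v + (k : F) • w := by
  induction k with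
  | zero => simp
  | succ k ih =>
    rw [pow_succ', ← Matrix.mulVec_mulVec, ih, Matrix.mulVec_add, Matrix.mulVec_smul, hv, hw, Nat.cast_succ,
      add_smul, one_smul, add_assoc, add_comm w]

theorem pow_mulVec_self {M : Matrix n n F} {w : n → F} (hw : M *ᵥ w = w) (k : ℕ) :
    (M ^ k) *ᵥ w = w := by
  induction k with
  | zero => simp
  | succ k ih => rw [pow_succ', ← Matrix.mulVec_mulVec, ih, hw]

/-- a matrix with a Jordan block of size two for the eigenvalue one: if `Mᵏ` is a scalar, `p ∣ k`. -/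
theorem dvd_of_pow_eq_smul {p : ℕ} [CharP F p] {M : Matrix n n F} {v w : n → F}
    (hv : M *ᵥ v = v + w) (hw : M *ᵥ w = w) (hw0 : w ≠ 0) {k : ℕ} {a : F}
    (h : M ^ k = a • (1 : Matrix n n F)) : p ∣ k := by
  have h1 := pow_mulVec hv hw k
  have h2 := pow_mulVec_self hw k
  rw [h, Matrix.smul_mulVec, Matrix.one_mulVec] at h1 h2
  have ha : a = 1 := by
    by_contra ha
    have h3 : (a - 1) • w = 0 := by rw [sub_smul, one_smul, h2, sub_self]
    rcases smul_eq_zero.1 h3 with h4 | h4
    · exact ha (sub_eq_zero.1 h4)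
    · exact hw0 h4
  rw [ha, one_smul, left_eq_add] at h1
  rcases smul_eq_zero.1 h1 with h4 | h4
  · exact (CharP.cast_eq_zero_iff F p k).1 h4
  · exact absurd h4 hw0

open Polynomial in
/-- the characteristic polynomial of a multiple -/
theorem charpoly_smul (M : Matrix n n F) {c : F} (hc : c ≠ 0) :
    (c • M).charpoly = C (c ^ Fintype.card n) * M.charpoly.comp (C c⁻¹ * X) := by
  have h1 : M.charpoly.comp (C c⁻¹ * X) =
      ((compRingHom (C c⁻¹ * X : F[X])).mapMatrix M.charmatrix).det := by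
    rw [← RingHom.map_det]
    rfl
  have h2 : (c • M).charmatrix = (C c : F[X]) • ((compRingHom (C c⁻¹ * X : F[X])).mapMatrix M.charmatrix) := by
    ext1 i j
    rw [Matrix.smul_apply, RingHom.mapMatrix_apply, Matrix.map_apply, coe_compRingHom_apply,
      Matrix.charmatrix_apply, Matrix.charmatrix_apply, sub_comp, C_comp, Matrix.smul_apply,
      smul_eq_mul, smul_eq_mul, mul_sub, C_mul]
    congr 1
    by_cases hij : i = j
    · subst hij
      rw [Matrix.diagonal_apply_eq, X_comp, ← mul_assoc, ← C_mul, mul_inv_cancel₀ hc, C_1, one_mul]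
    · rw [Matrix.diagonal_apply_ne _ hij, zero_comp, mul_zero]
  rw [Matrix.charpoly, h2, Matrix.det_smul, h1, C_pow]

end Sing

end Cfsg.Agent.H279.ZerosTools
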